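import Cfsg.Agent.Lib.ColumnFour.SymSquare
import Cfsg.Agent.Lib.DegreePSubTwo.AltSquare
import Cfsg.Agent.Lib.Char.RealChar
import Cfsg.Agent.Lib.Char.Linear
import Cfsg.Agent.Lib.Char.KernelSum
import Mathlib.LinearAlgebra.Matrix.Adjugate

/-!
# An element with `χ(1) - χ(u) = 4` or `χ(u) = 0` on all non-principal characters

The characters not vanishing at `u`: there are no linear ones, those with negative value have
degree three, and each of these brings a companion of degree five or six.
-/

set_option autoImplicit false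
set_option linter.unusedSectionVars false

namespace Cfsg.Agent.ColumnFour

open scoped ComplexConjugate
open Cfsg Cfsg.Agent.Char

universe w

variable {G : Type w} [Group G] [Fintype G]

/-! ### Tools -/

theorem classInner_pointwise (a b c d a' b' : G → ℂ)
    (h : ∀ g, a g * b g * conj (c g) * conj (d g) = a' g * conj (b' g)) :
    classInner (fun g => a g * b g) (fun g => c g * d g) = classInner a' b' := by
  unfold classInner
  congr 1
  refine Finset.sum_congr rfl fun g _ => ?_
  rw [map_mul, ← h g]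
  ring

theorem exists_mult {f : G → ℂ} (hf : IsCharacter G f) :
    ∃ m : IrrCharacter G → ℕ, (∀ χ, classInner f χ.1 = m χ) ∧
      (∀ g, f g = ∑ χ, (m χ : ℂ) * χ.1 g) := by
  obtain ⟨m, hm, hm'⟩ := IsCharacter.exists_decomp hf
  exact ⟨m, hm', fun g => by conv_lhs => rw [hm]; simp [Finset.sum_apply]⟩

/-- A constituent of full degree is the whole character. -/
theorem eq_of_degree {f : G → ℂ} (hf : IsCharacter G f) (χ : IrrCharacter G)
    (h : classInner f χ.1 ≠ 0) (h1 : f 1 = χ.1 1) : f = χ.1 := by
  classical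
  obtain ⟨m, hm, hfg⟩ := exists_mult hf
  have hd : ∑ ψ : IrrCharacter G, m ψ * degree ψ = degree χ := by
    have e := hfg 1
    simp only [h1, apply_one_eq_degree] at e
    exact_mod_cast e.symm
  have hpos : 0 < m χ := Nat.pos_of_ne_zero fun h0 => h (by rw [hm, h0, Nat.cast_zero])
  rw [← Finset.add_sum_erase _ _ (Finset.mem_univ χ)] at hd
  have hle : degree χ ≤ m χ * degree χ := Nat.le_mul_of_pos_left _ hpos
  have hm1 : m χ = 1 := by
    have : m χ * degree χ = 1 * degree χ := by omega
    exact Nat.eq_of_mul_eq_mul_right (degree_pos χ) this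
  have hrest : ∀ ψ, ψ ≠ χ → m ψ = 0 := fun ψ hψ => by
    have h0 : ∑ x ∈ Finset.univ.erase χ, m x * degree x = 0 := by omega
    have := Finset.sum_eq_zero_iff.1 h0 ψ (Finset.mem_erase.2 ⟨hψ, Finset.mem_univ ψ⟩)
    exact (Nat.mul_eq_zero.1 this).resolve_right (degree_pos ψ).ne'
  funext g
  rw [hfg g, Finset.sum_eq_single χ (fun ψ _ hψ => by simp [hrest ψ hψ])
    (fun h' => absurd (Finset.mem_univ χ) h'), hm1, Nat.cast_one, one_mul]

/-- Removing a constituent leaves a character. -/
theorem isCharacter_sub {f : G → ℂ} (hf : IsCharacter G f) (χ : IrrCharacter G)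
    (h : classInner f χ.1 ≠ 0) : IsCharacter G (f - χ.1) := by
  classical
  refine isCharacter_iff.2 ⟨fun a b => ?_, fun ψ => ?_⟩
  · simp only [Pi.sub_apply, IsCharacter.isClassFunction hf a b,
      IsCharacter.isClassFunction (irr_isCharacter χ) a b]
  · obtain ⟨k, hk⟩ := IsCharacter.exists_nat_classInner hf (irr_isCharacter ψ)
    rw [classInner_sub_left, hk, classInner_irr]
    by_cases hψ : χ = ψ
    · subst hψ
      have : 1 ≤ k := Nat.pos_of_ne_zero fun h0 => h (by rw [hk, h0, Nat.cast_zero])
      exact ⟨k - 1, by rw [if_pos rfl, Nat.cast_sub this, Nat.cast_one]⟩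
    · exact ⟨k, by rw [if_neg hψ, sub_zero]⟩

/-- Characters with a common constituent are not orthogonal. -/
theorem classInner_ne_zero {f f' : G → ℂ} (hf : IsCharacter G f) (hf' : IsCharacter G f')
    (χ : IrrCharacter G) (h : classInner f χ.1 ≠ 0) (h' : classInner f' χ.1 ≠ 0) :
    classInner f f' ≠ 0 := by
  obtain ⟨m, hm, -⟩ := exists_mult hf
  obtain ⟨m', hm', -⟩ := exists_mult hf'
  have e : classInner f f' = ((∑ ψ, m ψ * m' ψ : ℕ) : ℂ) := by
    rw [classInner_eq_sum (IsCharacter.isClassFunction hf), Nat.cast_sum]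
    refine Finset.sum_congr rfl fun ψ _ => ?_
    rw [← conj_classInner f' ψ.1, hm, hm', map_natCast, Nat.cast_mul]
  rw [e, Nat.cast_ne_zero]
  intro h0
  rcases Nat.mul_eq_zero.1 (Finset.sum_eq_zero_iff.1 h0 χ (Finset.mem_univ χ)) with h1 | h1
  · exact h (by rw [hm, h1, Nat.cast_zero])
  · exact h' (by rw [hm', h1, Nat.cast_zero])

theorem classInner_irr_ne {χ ψ : IrrCharacter G} (h : degree χ ≠ degree ψ) :
    classInner χ.1 ψ.1 = 0 :=
  classInner_eq_zero_of_ne fun e => h (e ▸ rfl)

theorem irr_eq_of_eq {χ ψ : IrrCharacter G} (h : ∀ g, χ.1 g = ψ.1 g) : χ = ψ :=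
  Subtype.ext (funext h)

theorem degree_trivialChar : degree (trivialChar G) = 1 := by
  have := apply_one_eq_degree (trivialChar G)
  rw [trivialChar_apply] at this
  exact_mod_cast this.symm

theorem degree_eq_of_apply_one {χ : IrrCharacter G} {n : ℕ} (h : χ.1 1 = n) : degree χ = n := by
  rw [apply_one_eq_degree] at h
  exact_mod_cast h

/-! ### The hypothesis -/

/-- The hypothesis on `u`. -/
def Hyp (u : G) : Prop :=
  ∀ χ : IrrCharacter G, χ ≠ trivialChar G → χ.1 1 - χ.1 u = 4 ∨ χ.1 u = 0

/-- The non-principal characters not vanishing at `u`. -/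
def InA (u : G) (χ : IrrCharacter G) : Prop :=
  χ ≠ trivialChar G ∧ χ.1 u ≠ 0

variable {u : G} (hyp : Hyp u)
include hyp

theorem apply_u {χ : IrrCharacter G} (h : InA u χ) : χ.1 u = (degree χ : ℂ) - 4 := by
  rw [← apply_one_eq_degree, ← (hyp χ h.1).resolve_right h.2]
  ring

theorem hom_eq_one (lam : G →* ℂ) : lam = 1 := by
  by_contra hne
  have h1 : linIrr lam ≠ trivialChar G := fun e => hne (MonoidHom.ext fun g => by
    have := congrFun (congrArg Subtype.val e) g
    simpa using this)
  have hn := normSq_linear lam u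
  rcases hyp _ h1 with h | h <;> simp only [linIrr_apply, map_one] at h
  · have e : lam u = -3 := by linear_combination -h
    rw [e, map_neg, Complex.conj_ofNat] at hn
    norm_num at hn
  · rw [h] at hn
    norm_num at hn

theorem commutator_eq_top : commutator G = ⊤ := by
  rw [← Subgroup.index_eq_one, ← card_monoidHom_complex]
  haveI : Subsingleton (G →* ℂ) := ⟨fun a b => by rw [hom_eq_one hyp a, hom_eq_one hyp b]⟩
  exact Nat.card_of_subsingleton (1 : G →* ℂ)

theorem two_le_degree {χ : IrrCharacter G} (h : χ ≠ trivialChar G) : 2 ≤ degree χ := by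
  by_contra hlt
  have h1 : degree χ = 1 := by have := degree_pos χ; omega
  obtain ⟨lam, hl⟩ := IsCharacter.exists_monoidHom (irr_isCharacter χ)
    (by rw [apply_one_eq_degree, h1, Nat.cast_one])
  refine h (irr_eq_of_eq fun g => ?_)
  rw [← hl, hom_eq_one hyp lam]
  simp

/-- The value at `u`, as an integer. -/
theorem exists_value (χ : IrrCharacter G) :
    ∃ e : ℤ, χ.1 u = e ∧ (χ ≠ trivialChar G → e = 0 ∨ (InA u χ ∧ e = (degree χ : ℤ) - 4)) := by
  by_cases h : χ = trivialChar G
  · exact ⟨1, by rw [h]; simp, fun h' => absurd h h'⟩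
  by_cases h0 : χ.1 u = 0
  · exact ⟨0, by rw [h0]; simp, fun _ => Or.inl rfl⟩
  · exact ⟨(degree χ : ℤ) - 4, by rw [apply_u hyp ⟨h, h0⟩]; simp, fun _ => Or.inr ⟨⟨h, h0⟩, rfl⟩⟩

theorem degree_ne_two {χ : IrrCharacter G} (h : InA u χ) : degree χ ≠ 2 := by
  classical
  intro h2
  have hu2 : χ.1 u = -2 := by rw [apply_u hyp h, h2]; norm_num
  have h12 : χ.1 1 = 2 := by rw [apply_one_eq_degree, h2]; norm_num
  set f : G → ℂ := fun g => χ.1 g * (conjIrr χ).1 g with hfdef
  have hf : IsCharacter G f := IsCharacter.mul (irr_isCharacter χ) (irr_isCharacter (conjIrr χ))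
  obtain ⟨m, hm, hfg⟩ := exists_mult hf
  choose e he he' using exists_value hyp
  have hm1 : m (trivialChar G) = 1 := by
    have := hm (trivialChar G)
    have e1 : classInner f (trivialChar G).1 = classInner χ.1 χ.1 := by
      simp [classInner, hfdef]
    rw [e1, classInner_irr_self χ.2] at this
    exact_mod_cast this.symm
  have hd : ∑ ψ : IrrCharacter G, m ψ * degree ψ = 4 := by
    have := hfg 1
    simp only [hfdef, conjIrr_apply, h12, apply_one_eq_degree, map_ofNat] at this
    norm_num at this
    exact_mod_cast this.symm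
  have hv : ∑ ψ : IrrCharacter G, (m ψ : ℤ) * e ψ = 4 := by
    have := hfg u
    simp only [hfdef, conjIrr_apply] at this
    rw [hu2] at this
    simp only [he, map_neg, map_ofNat, Complex.conj_ofNat] at this
    norm_num at this
    exact_mod_cast this.symm
  rw [← Finset.add_sum_erase _ _ (Finset.mem_univ (trivialChar G)), hm1, degree_trivialChar] at hd
  have het : e (trivialChar G) = 1 := by
    have := he (trivialChar G)
    simp at this
    exact_mod_cast this.symm
  rw [← Finset.add_sum_erase _ _ (Finset.mem_univ (trivialChar G)), hm1, het] at hv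
  have hle : ∀ ψ ∈ Finset.univ.erase (trivialChar G),
      (m ψ : ℤ) * e ψ + (m ψ : ℤ) ≤ ((m ψ * degree ψ : ℕ) : ℤ) := by
    intro ψ hψ
    have h1 : e ψ + 1 ≤ (degree ψ : ℤ) := by
      have := degree_pos ψ
      rcases he' ψ (Finset.mem_erase.1 hψ).1 with h | ⟨-, h⟩ <;> omega
    push_cast
    have := mul_le_mul_of_nonneg_left h1 (Int.natCast_nonneg (m ψ))
    linarith
  have hsum := Finset.sum_le_sum hle
  rw [Finset.sum_add_distrib] at hsum
  have hd' : ∑ ψ ∈ Finset.univ.erase (trivialChar G), ((m ψ * degree ψ : ℕ) : ℤ) = 3 := by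
    rw [← Nat.cast_sum]
    exact_mod_cast (by omega : ∑ ψ ∈ Finset.univ.erase (trivialChar G), m ψ * degree ψ = 3)
  have hz : ∑ ψ ∈ Finset.univ.erase (trivialChar G), (m ψ : ℤ) ≤ 0 := by omega
  have hz' : ∀ ψ ∈ Finset.univ.erase (trivialChar G), m ψ = 0 := fun ψ hψ => by
    have := (Finset.sum_eq_zero_iff_of_nonneg fun x _ => Int.natCast_nonneg (m x)).1
      (le_antisymm hz (Finset.sum_nonneg fun x _ => Int.natCast_nonneg (m x))) ψ hψ
    exact_mod_cast this
  rw [Finset.sum_eq_zero fun ψ hψ => by rw [hz' ψ hψ, Nat.cast_zero, zero_mul]] at hv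
  omega

theorem degree_cases {χ : IrrCharacter G} (h : InA u χ) : degree χ = 3 ∨ 5 ≤ degree χ := by
  have h2 := two_le_degree hyp h.1
  have := degree_ne_two hyp h
  have h4 : degree χ ≠ 4 := fun e => h.2 (by rw [apply_u hyp h, e]; norm_num)
  omega

/-- A character negative at `u` has a constituent of degree three in the set. -/
theorem exists_negative {f : G → ℂ} (hf : IsCharacter G f) {k : ℤ} (hk : f u = k) (hneg : k < 0) :
    ∃ χ : IrrCharacter G, classInner f χ.1 ≠ 0 ∧ InA u χ ∧ degree χ = 3 := by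
  classical
  obtain ⟨m, hm, hfg⟩ := exists_mult hf
  choose e he he' using exists_value hyp
  have hv : ∑ ψ : IrrCharacter G, (m ψ : ℤ) * e ψ = k := by
    have := hfg u
    simp only [hk, he] at this
    exact_mod_cast this.symm
  obtain ⟨χ, -, hχ⟩ : ∃ χ ∈ Finset.univ, (m χ : ℤ) * e χ < 0 := by
    by_contra hcon
    push Not at hcon
    have := Finset.sum_nonneg hcon
    omega
  have hm0 : m χ ≠ 0 := fun h0 => by simp [h0] at hχ
  have he0 : e χ < 0 := by
    by_contra hge
    have := mul_nonneg (Int.natCast_nonneg (m χ)) (not_lt.1 hge)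
    omega
  have hne : χ ≠ trivialChar G := fun h => by
    have h1 := he χ
    rw [h] at h1
    simp at h1
    have h2 : e χ = 1 := by rw [h]; exact_mod_cast h1.symm
    omega
  refine ⟨χ, by rw [hm]; exact_mod_cast hm0, ?_⟩
  rcases he' χ hne with h | ⟨hA, h⟩
  · omega
  · refine ⟨hA, ?_⟩
    rcases degree_cases hyp hA with hd | hd <;> omega

/-- A character of degree at most six, positive at `u`, free of the trivial one, is irreducible. -/
theorem exists_eq_of_pos {f : G → ℂ} (hf : IsCharacter G f) {D : ℕ} (hD : f 1 = D) (hD6 : D ≤ 6)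
    {k : ℤ} (hk : f u = k) (hpos : 0 < k) (h0 : classInner f (fun _ => (1 : ℂ)) = 0) :
    ∃ χ : IrrCharacter G, (∀ g, χ.1 g = f g) ∧ InA u χ ∧ degree χ = D := by
  classical
  obtain ⟨m, hm, hfg⟩ := exists_mult hf
  choose e he he' using exists_value hyp
  have hmt : m (trivialChar G) = 0 := by
    have h := hm (trivialChar G)
    change classInner f (fun _ => (1 : ℂ)) = _ at h
    rw [h0] at h
    exact_mod_cast h.symm
  have hd : ∑ ψ : IrrCharacter G, m ψ * degree ψ = D := by
    have := hfg 1
    simp only [hD, apply_one_eq_degree] at this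
    exact_mod_cast this.symm
  have hv : ∑ ψ : IrrCharacter G, (m ψ : ℤ) * e ψ = k := by
    have := hfg u
    simp only [hk, he] at this
    exact_mod_cast this.symm
  obtain ⟨χ, -, hχ⟩ : ∃ χ ∈ Finset.univ, 0 < (m χ : ℤ) * e χ := by
    by_contra hcon
    push Not at hcon
    have := Finset.sum_nonpos hcon
    omega
  have hm0 : m χ ≠ 0 := fun h => by simp [h] at hχ
  have hne : χ ≠ trivialChar G := fun h => hm0 (h ▸ hmt)
  obtain ⟨hA, hd5⟩ : InA u χ ∧ 5 ≤ degree χ := by
    rcases he' χ hne with h | ⟨hA, h⟩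
    · simp [h] at hχ
    · refine ⟨hA, (degree_cases hyp hA).resolve_left fun h3 => ?_⟩
      rw [h, h3] at hχ
      have := Int.natCast_nonneg (m χ)
      push_cast at hχ
      linarith
  have hsingle : degree χ ≤ m χ * degree χ :=
    Nat.le_mul_of_pos_left _ (Nat.pos_of_ne_zero hm0)
  rw [← Finset.add_sum_erase _ _ (Finset.mem_univ χ)] at hd
  have hrest : ∀ ψ ∈ Finset.univ.erase χ, m ψ = 0 := by
    intro ψ hψ
    by_contra hne0
    have hψt : ψ ≠ trivialChar G := fun h => hne0 (h ▸ hmt)
    have h2 := two_le_degree hyp hψt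
    have h3 : m ψ * degree ψ ≤ ∑ x ∈ Finset.univ.erase χ, m x * degree x :=
      Finset.single_le_sum (f := fun x => m x * degree x) (fun x _ => Nat.zero_le _) hψ
    have h4 : degree ψ ≤ m ψ * degree ψ := Nat.le_mul_of_pos_left _ (Nat.pos_of_ne_zero hne0)
    omega
  have hdr : ∑ x ∈ Finset.univ.erase χ, m x * degree x = 0 :=
    Finset.sum_eq_zero fun x hx => by rw [hrest x hx, zero_mul]
  have hm1 : m χ = 1 := by
    by_contra h1
    have : 2 * degree χ ≤ m χ * degree χ := Nat.mul_le_mul_right _ (by omega)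
    omega
  have hdD : degree χ = D := by rw [hm1] at hd; omega
  refine ⟨χ, fun g => ?_, hA, hdD⟩
  have : f = χ.1 := eq_of_degree hf χ (by rw [hm, hm1]; norm_num)
    (by rw [hD, apply_one_eq_degree, hdD])
  rw [this]

/-! ### Degree three -/

theorem sq_value (α : IrrCharacter G) (h3 : degree α = 3) (g : G) :
    α.1 (g ^ 2) = α.1 g ^ 2 - 2 * conj (α.1 g) := by
  obtain ⟨n, ρ, hρ⟩ := irr_isCharacter α
  have hn : n = 3 := by
    have h1 := apply_one_eq_degree α
    rw [← hρ, h3] at h1
    simp at h1
    exact_mod_cast h1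
  subst hn
  let A : G →* Matrix (Fin 3) (Fin 3) ℂ :=
    { toFun := fun g => LinearMap.toMatrix' (ρ g)
      map_one' := by rw [map_one]; exact LinearMap.toMatrix'_id
      map_mul' := fun a b => by rw [map_mul]; exact LinearMap.toMatrix'_mul _ _ }
  have hdet : ∀ g, (A g).det = 1 := fun g => by
    have h := hom_eq_one hyp ((Matrix.detMonoidHom (n := Fin 3) (R := ℂ)).comp A)
    exact congrArg (fun f : G →* ℂ => f g) h
  have htr : ∀ g, α.1 g = Matrix.trace (A g) := fun g => by
    rw [← hρ, Char.character_eq_trace]; rfl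
  have hadj : Matrix.adjugate (A g) = A g⁻¹ := by
    calc Matrix.adjugate (A g) = Matrix.adjugate (A g) * (A g * A g⁻¹) := by
          rw [← map_mul, mul_inv_cancel, map_one, mul_one]
      _ = A g⁻¹ := by rw [← mul_assoc, Matrix.adjugate_mul, hdet, one_smul, one_mul]
  rw [IsCharacter.conj_apply (irr_isCharacter α) g, htr, htr, htr, pow_two g, map_mul, ← hadj,
    Matrix.adjugate_fin_three]
  simp [Matrix.trace_fin_three, Matrix.mul_apply, Fin.sum_univ_three]
  ring

variable {α : IrrCharacter G}

theorem deg3_values (hA : InA u α) (h3 : degree α = 3) :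
    α.1 u = -1 ∧ α.1 1 = 3 ∧ α.1 (u ^ 2) = 3 := by
  have h1 : α.1 u = -1 := by rw [apply_u hyp hA, h3]; norm_num
  refine ⟨h1, by rw [apply_one_eq_degree, h3]; norm_num, ?_⟩
  rw [sq_value hyp α h3, h1]
  norm_num

theorem sym_eq (h3 : degree α = 3) :
    IsCharacter G (fun g => α.1 g * α.1 g - conj (α.1 g)) := by
  have h := isCharacter_symSq (irr_isCharacter α)
  convert h using 1
  funext g
  rw [symSq, sq_value hyp α h3]
  ring

theorem inner_sq_conj (h3 : degree α = 3) :
    classInner (fun g => α.1 g * α.1 g) (fun g => conj (α.1 g)) =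
      classInner (fun g => α.1 g * α.1 g - conj (α.1 g)) (conjIrr α).1 + 1 := by
  rw [show (fun g => α.1 g * α.1 g - conj (α.1 g)) = (fun g => α.1 g * α.1 g) - (conjIrr α).1
      from rfl, classInner_sub_left, classInner_irr_self (conjIrr α).2,
    show (fun g => conj (α.1 g)) = (conjIrr α).1 from rfl]
  ring

theorem inner_sym_one (h3 : degree α = 3) :
    classInner (fun g => α.1 g * α.1 g - conj (α.1 g)) (fun _ => (1 : ℂ)) =
      classInner α.1 (conjIrr α).1 := by
  have hne : conjIrr α ≠ trivialChar G := fun h => by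
    have h1 := congrArg degree h
    rw [degree_trivialChar] at h1
    have h2 : degree (conjIrr α) = 3 := degree_eq_of_apply_one (by
      rw [conjIrr_apply, apply_one_eq_degree, h3]; simp [Complex.conj_ofNat])
    omega
  have h0 : classInner (conjIrr α).1 (fun _ => (1 : ℂ)) = 0 :=
    classInner_eq_zero_of_ne (ψ := trivialChar G) hne
  rw [show (fun g => α.1 g * α.1 g - conj (α.1 g)) = (fun g => α.1 g * α.1 g) - (conjIrr α).1
      from rfl, classInner_sub_left, h0, sub_zero]
  simp [classInner]

/-- The companion of degree six of a non-real character of degree three. -/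
theorem exists_six (hA : InA u α) (h3 : degree α = 3) (hnr : conjIrr α ≠ α) :
    ∃ Ψ : IrrCharacter G, InA u Ψ ∧ degree Ψ = 6 ∧
      ∀ g, Ψ.1 g = α.1 g * α.1 g - conj (α.1 g) := by
  obtain ⟨hu, h1, -⟩ := deg3_values hyp hA h3
  obtain ⟨Ψ, hΨ, hΨA, hΨd⟩ := exists_eq_of_pos hyp (sym_eq hyp h3) (D := 6)
    (by simp only [h1, Complex.conj_ofNat]; norm_num) le_rfl (k := 2) (by simp only [hu]; norm_num) (by norm_num)
    (by rw [inner_sym_one hyp h3]; exact classInner_eq_zero_of_ne fun h => hnr h.symm)
  exact ⟨Ψ, hΨA, hΨd, hΨ⟩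

/-- The companion of degree five of a real character of degree three. -/
theorem exists_five (hA : InA u α) (h3 : degree α = 3) (hr : conjIrr α = α) :
    ∃ Ψ : IrrCharacter G, InA u Ψ ∧ degree Ψ = 5 ∧
      ∀ g, α.1 g * α.1 g = 1 + α.1 g + Ψ.1 g := by
  obtain ⟨hu, h1, -⟩ := deg3_values hyp hA h3
  have hc : ∀ g, conj (α.1 g) = α.1 g := fun g => congrFun (congrArg Subtype.val hr) g
  have hone : classInner (fun g => α.1 g * α.1 g - conj (α.1 g)) (trivialChar G).1 = 1 := by
    show classInner _ (fun _ => (1 : ℂ)) = 1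
    rw [inner_sym_one hyp h3, hr, classInner_irr_self α.2]
  obtain ⟨Ψ, hΨ, hΨA, hΨd⟩ := exists_eq_of_pos hyp
    (isCharacter_sub (sym_eq hyp h3) (trivialChar G) (by rw [hone]; norm_num)) (D := 5)
    (by simp only [Pi.sub_apply, trivialChar_apply, h1, Complex.conj_ofNat]; norm_num) (by norm_num) (k := 1)
    (by simp only [Pi.sub_apply, trivialChar_apply, hu]; norm_num) (by norm_num)
    (by
      show classInner _ (trivialChar G).1 = 0
      rw [classInner_sub_left, hone, classInner_irr_self (trivialChar G).2, sub_self])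
  refine ⟨Ψ, hΨA, hΨd, fun g => ?_⟩
  rw [hΨ g]
  simp only [Pi.sub_apply, trivialChar_apply, hc]
  ring

/-- For non-real `α`, `α ᾱ - 1` is irreducible. -/
theorem exists_eight (hA : InA u α) (h3 : degree α = 3) (hnr : conjIrr α ≠ α) :
    ∃ E : IrrCharacter G, degree E = 8 ∧ ∀ g, α.1 g * conj (α.1 g) = 1 + E.1 g := by
  obtain ⟨hu, h1, -⟩ := deg3_values hyp hA h3
  obtain ⟨Ψ, -, hΨd, hΨ⟩ := exists_six hyp hA h3 hnr
  set f : G → ℂ := fun g => α.1 g * conj (α.1 g) with hfdef
  have hf : IsCharacter G f := IsCharacter.mul (irr_isCharacter α) (irr_isCharacter (conjIrr α))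
  have hone : classInner f (trivialChar G).1 = 1 := by
    rw [← classInner_irr_self α.2]
    simp [classInner, hfdef]
  have hsq : classInner f f = 2 := by
    have e1 : classInner f f =
        classInner (fun g => α.1 g * α.1 g) (fun g => α.1 g * α.1 g) := by
      unfold classInner
      congr 1
      exact Finset.sum_congr rfl fun g _ => by simp only [hfdef, map_mul, Complex.conj_conj]; ring
    have e2 : (fun g => α.1 g * α.1 g) = Ψ.1 + (conjIrr α).1 := funext fun g => by
      rw [Pi.add_apply, hΨ g, conjIrr_apply]; ring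
    have hd' : degree (conjIrr α) = 3 := degree_eq_of_apply_one (by
      rw [conjIrr_apply, h1]; simp [Complex.conj_ofNat])
    rw [e1, e2, classInner_add_left, classInner_add_right, classInner_add_right,
      classInner_irr_self Ψ.2, classInner_irr_self (conjIrr α).2,
      classInner_irr_ne (by omega), classInner_irr_ne (χ := conjIrr α) (ψ := Ψ) (by omega)]
    norm_num
  have hg : IsCharacter G (f - (trivialChar G).1) :=
    isCharacter_sub hf _ (by rw [hone]; norm_num)
  have hg1 : classInner (f - (trivialChar G).1) (f - (trivialChar G).1) = 1 := by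
    rw [classInner_sub_left, classInner_sub_right, classInner_sub_right, hsq, hone,
      ← conj_classInner f (trivialChar G).1, hone, classInner_irr_self (trivialChar G).2]
    norm_num
  refine ⟨⟨_, isIrrCharacter_iff.2 ⟨hg, hg1⟩⟩, degree_eq_of_apply_one ?_, fun g => ?_⟩
  · simp only [Pi.sub_apply, hfdef, trivialChar_apply, h1, Complex.conj_ofNat]
    norm_num
  · simp only [Pi.sub_apply, hfdef, trivialChar_apply]
    ring

/-- Non-real characters of degree three are determined by their companions. -/
theorem six_injective {β : IrrCharacter G} (hA : InA u α) (h3 : degree α = 3)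
    (hnr : conjIrr α ≠ α) (hB : InA u β) (hb3 : degree β = 3) (hnrb : conjIrr β ≠ β)
    (heq : ∀ g, α.1 g * α.1 g - conj (α.1 g) = β.1 g * β.1 g - conj (β.1 g)) : α = β := by
  by_contra hne
  obtain ⟨Ψ, hΨA, hΨd, hΨ⟩ := exists_six hyp hA h3 hnr
  set f : G → ℂ := DegreePSubTwo.altSq Ψ.1 with hfdef
  have hf : IsCharacter G f := DegreePSubTwo.isCharacter_altSq (irr_isCharacter Ψ)
  -- the alternating square of the companion, in terms of either character
  have key : ∀ (γ : IrrCharacter G), degree γ = 3 →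
      (∀ g, Ψ.1 g = γ.1 g * γ.1 g - conj (γ.1 g)) →
      ∀ g, f g = Ψ.1 g * conj (γ.1 g) - γ.1 g := by
    intro γ hγ hΨγ g
    simp only [hfdef, DegreePSubTwo.altSq, hΨγ, sq_value hyp γ hγ g, map_sub, map_mul, map_pow,
      map_ofNat, Complex.conj_conj]
    ring
  have hfu : f u = ((-1 : ℤ) : ℂ) := by
    obtain ⟨hu, -, -⟩ := deg3_values hyp hA h3
    rw [key α h3 hΨ u, hΨ u, hu]
    norm_num
  obtain ⟨φ, hφf, hφA, hφd⟩ := exists_negative hyp hf hfu (by norm_num)
  have hφc : IsCharacter G φ.1 := irr_isCharacter φ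
  -- the companion lies in the products with `φ`
  have hin : ∀ (γ : IrrCharacter G), degree γ = 3 →
      (∀ g, Ψ.1 g = γ.1 g * γ.1 g - conj (γ.1 g)) →
      classInner (fun g => φ.1 g * γ.1 g) Ψ.1 ≠ 0 := by
    intro γ hγ hΨγ
    have e1 : (fun g => Ψ.1 g * conj (γ.1 g)) = f + γ.1 := funext fun g => by
      rw [Pi.add_apply, key γ hγ hΨγ g]; ring
    obtain ⟨a, ha⟩ := IsCharacter.exists_nat_classInner hf hφc
    obtain ⟨b, hb⟩ := IsCharacter.exists_nat_classInner (irr_isCharacter γ) hφc
    have e2 : classInner (fun g => Ψ.1 g * conj (γ.1 g)) φ.1 ≠ 0 := by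
      rw [e1, classInner_add_left, ha, hb, ← Nat.cast_add, Nat.cast_ne_zero]
      have : a ≠ 0 := fun h => hφf (by rw [ha, h, Nat.cast_zero])
      omega
    intro h0
    apply e2
    have e3 : classInner (fun g => Ψ.1 g * conj (γ.1 g)) φ.1 =
        conj (classInner (fun g => φ.1 g * γ.1 g) Ψ.1) := by
      rw [conj_classInner]
      unfold classInner
      congr 1
      exact Finset.sum_congr rfl fun g _ => by rw [map_mul]; ring
    rw [e3, h0, map_zero]
  have hΨβ : ∀ g, Ψ.1 g = β.1 g * β.1 g - conj (β.1 g) := fun g => by rw [hΨ g, heq g]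
  have ha := hin α h3 hΨ
  have hb := hin β hb3 hΨβ
  have hca : IsCharacter G (fun g => φ.1 g * α.1 g) := IsCharacter.mul hφc (irr_isCharacter α)
  by_cases hφr : conjIrr φ = φ
  · -- a real `φ` makes the product irreducible of degree nine
    obtain ⟨E, hEd, hE⟩ := exists_eight hyp hA h3 hnr
    obtain ⟨Φ, -, hΦd, hΦ⟩ := exists_five hyp hφA hφd hφr
    have hc : ∀ g, conj (φ.1 g) = φ.1 g := fun g => congrFun (congrArg Subtype.val hφr) g
    have hnorm : classInner (fun g => φ.1 g * α.1 g) (fun g => φ.1 g * α.1 g) = 1 := by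
      rw [classInner_pointwise φ.1 α.1 φ.1 α.1 ((trivialChar G).1 + φ.1 + Φ.1)
        ((trivialChar G).1 + E.1) (fun g => by
          simp only [Pi.add_apply, trivialChar_apply, ← hΦ g, ← hE g, map_mul, Complex.conj_conj,
            hc g]
          ring)]
      simp only [classInner_add_left, classInner_add_right,
        classInner_irr_self (trivialChar G).2]
      rw [classInner_irr_ne (ψ := E) (by rw [degree_trivialChar]; omega),
        classInner_irr_ne (χ := φ) (by rw [degree_trivialChar]; omega),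
        classInner_irr_ne (χ := φ) (ψ := E) (by omega),
        classInner_irr_ne (χ := Φ) (by rw [degree_trivialChar]; omega),
        classInner_irr_ne (χ := Φ) (ψ := E) (by omega)]
      norm_num
    let θ : IrrCharacter G := ⟨_, isIrrCharacter_iff.2 ⟨hca, hnorm⟩⟩
    have hθ : degree θ = 9 := degree_eq_of_apply_one (by
      show φ.1 1 * α.1 1 = _
      rw [apply_one_eq_degree, apply_one_eq_degree, hφd, h3]; norm_num)
    exact ha (classInner_irr_ne (χ := θ) (by omega))
  · -- a non-real `φ` forces `α = β`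
    obtain ⟨E, hEd, hE⟩ := exists_eight hyp hφA hφd hφr
    have hcb : IsCharacter G (fun g => φ.1 g * β.1 g) := IsCharacter.mul hφc (irr_isCharacter β)
    have hne0 := classInner_ne_zero hca hcb Ψ ha hb
    have hab : IsCharacter G (fun g => conj (α.1 g) * β.1 g) :=
      IsCharacter.mul (irr_isCharacter (conjIrr α)) (irr_isCharacter β)
    have hone : classInner (fun g => conj (α.1 g) * β.1 g) (trivialChar G).1 = 0 := by
      rw [← classInner_eq_zero_of_ne (χ := β) (ψ := α) (Ne.symm hne)]
      simp [classInner, mul_comm]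
    have hprod : classInner ((trivialChar G).1 + E.1) (fun g => conj (α.1 g) * β.1 g) ≠ 0 := by
      rwa [← classInner_pointwise φ.1 α.1 φ.1 β.1 ((trivialChar G).1 + E.1)
        (fun g => conj (α.1 g) * β.1 g) (fun g => by
          simp only [Pi.add_apply, trivialChar_apply, ← hE g, map_mul, Complex.conj_conj]
          ring)]
    rw [classInner_add_left, ← conj_classInner _ (trivialChar G).1, hone, map_zero, zero_add,
      ← conj_classInner _ E.1] at hprod
    have hrest : IsCharacter G ((fun g => conj (α.1 g) * β.1 g) - E.1) :=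
      isCharacter_sub hab E fun h => hprod (by rw [h, map_zero])
    have h1 : ((fun g => conj (α.1 g) * β.1 g) - E.1) 1 = 1 := by
      simp only [Pi.sub_apply, apply_one_eq_degree, h3, hb3, hEd, map_natCast]
      norm_num
    obtain ⟨lam, hl⟩ := IsCharacter.exists_monoidHom hrest h1
    have htriv : (fun g => conj (α.1 g) * β.1 g) - E.1 = (trivialChar G).1 := by
      rw [← hl, hom_eq_one hyp lam]; rfl
    have := congrArg (fun h => classInner h (trivialChar G).1) htriv
    simp only [classInner_sub_left, hone, classInner_irr_self (trivialChar G).2] at this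
    rw [classInner_irr_ne (by rw [degree_trivialChar]; omega)] at this
    norm_num at this

end Cfsg.Agent.ColumnFour
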