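import Cfsg.Prelude.Def_CaseTheorems
import Cfsg.Agent.Lib.PSL2.SmallIso
import Cfsg.Agent.Lib.PGroup.MaximalClass
import Cfsg.Agent.Lib.PCore.Basic
import Cfsg.Agent.Lib.Char.Orthogonality
import Cfsg.Agent.Lib.PGroup.UniqueOrderP
import Cfsg.Agent.S3378
import Mathlib.GroupTheory.Transfer
import Mathlib.GroupTheory.FixedPointFree

/-!
# Icosahedral quotient with a self-centralising element over a single class

`G` is perfect, `G / K ≅ A₅`, the coset `u K` is one class of elements with centraliser of order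
four and `u² ∈ K`.  Then `K = 1`, or `K` is twice an abelian group of odd order inverted by `u²`
and the quotient by it is `SL(2, 5)`.
-/

set_option autoImplicit false
set_option linter.unusedSectionVars false
set_option linter.style.haveILetI false

namespace Cfsg.Agent.ColumnFour

open scoped MatrixGroups commutatorElement

theorem alternatingFive_involutions : ∀ x : alternatingGroup (Fin 5), x * x = 1 → x ≠ 1 →
    ∀ y : alternatingGroup (Fin 5), y * y = 1 → y ≠ 1 → ∃ c, c * x * c⁻¹ = y := by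
  decide +kernel

theorem alternatingFive_exponent : ∀ x : alternatingGroup (Fin 5), x ^ 4 = 1 → x ^ 2 = 1 := by
  decide +kernel

variable {G : Type*} [Group G] [Finite G]

/-- An involutory automorphism without fixed points on a finite subgroup inverts it. -/
theorem inverts_of_fpf (D : Subgroup G) (x : G) (hx : ∀ d ∈ D, x * d * x⁻¹ ∈ D)
    (hx2 : ∀ d ∈ D, x * (x * d * x⁻¹) * x⁻¹ = d)
    (hfix : ∀ d ∈ D, x * d * x⁻¹ = d → d = 1) :
    (∀ d ∈ D, x * d * x⁻¹ = d⁻¹) ∧ IsMulCommutative D := by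
  let φ : D →* D :=
    { toFun := fun d => ⟨x * d * x⁻¹, hx d d.2⟩
      map_one' := Subtype.ext (by simp)
      map_mul' := fun a b => Subtype.ext (by simp [mul_assoc]) }
  have hf : MonoidHom.FixedPointFree φ := fun d hd =>
    Subtype.ext (hfix d d.2 (congrArg Subtype.val hd))
  have hi : Function.Involutive φ := fun d => Subtype.ext (hx2 d d.2)
  refine ⟨fun d hd => ?_, ⟨⟨fun a b => hf.commute_all_of_involutive hi a b⟩⟩⟩
  have := congrFun (hf.coe_eq_inv_of_involutive hi) ⟨d, hd⟩
  exact congrArg Subtype.val this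

/-- In a perfect group a cyclic normal subgroup is central. -/
theorem commute_of_cyclic_normal {H : Type*} [Group H] [Finite H] (hperf : commutator H = ⊤)
    (C : Subgroup H) [C.Normal] [IsCyclic C] {c : H} (hc : c ∈ C) (h : H) : h * c = c * h := by
  let g : H →* (ZMod (Nat.card C))ˣ :=
    (IsCyclic.mulAutMulEquiv C).toMonoidHom.comp (MulAut.conjNormal (H := C))
  have hh : h ∈ g.ker :=
    Abelianization.commutator_subset_ker g (hperf ▸ Subgroup.mem_top h)
  rw [MonoidHom.mem_ker] at hh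
  have h1 : MulAut.conjNormal (H := C) h = 1 := by
    apply (IsCyclic.mulAutMulEquiv C).injective
    rw [map_one]
    exact hh
  have h2 := congrArg (fun f : MulAut C => ((f ⟨c, hc⟩ : C) : H)) h1
  simp only [MulAut.conjNormal_apply, MulAut.one_apply] at h2
  exact mul_inv_eq_iff_eq_mul.1 h2

/-- The configuration reached from the characters. -/
structure Config (G : Type*) [Group G] (u : G) (K : Subgroup G) [K.Normal] : Prop where
  perfect : commutator G = ⊤
  iso : Nonempty (G ⧸ K ≃* alternatingGroup (Fin 5))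
  not_mem : u ∉ K
  sq_mem : u ^ 2 ∈ K
  isConj : ∀ k ∈ K, IsConj (u * k) u
  card_cent : Nat.card (Subgroup.centralizer ({u} : Set G)) = 4

namespace Config

variable {u : G} {K : Subgroup G} [K.Normal] (hc : Config G u K)
include hc

theorem isSimple : IsSimpleGroup (G ⧸ K) := by
  obtain ⟨e⟩ := hc.iso
  haveI : Nontrivial (G ⧸ K) := e.toEquiv.nontrivial
  haveI := alternatingGroup.isSimpleGroup_five
  exact IsSimpleGroup.isSimpleGroup_of_surjective e.symm.toMonoidHom e.symm.surjective

theorem index_eq : K.index = 60 := by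
  obtain ⟨e⟩ := hc.iso
  rw [Subgroup.index, Nat.card_congr e.toEquiv, nat_card_alternatingGroup, Nat.card_fin]
  rfl

theorem isConj_of_involution {x : G} (hx : x ∉ K) (hx2 : x * x ∈ K) : IsConj x u := by
  obtain ⟨e⟩ := hc.iso
  have hne : ∀ g : G, g ∉ K → e (g : G ⧸ K) ≠ 1 := fun g hg h =>
    hg ((QuotientGroup.eq_one_iff g).1 (e.map_eq_one_iff.1 h))
  have hsq : ∀ g : G, g * g ∈ K → e (g : G ⧸ K) * e (g : G ⧸ K) = 1 := fun g hg => by
    rw [← map_mul, ← QuotientGroup.mk_mul, (QuotientGroup.eq_one_iff _).2 hg, map_one]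
  obtain ⟨c, hcc⟩ := alternatingFive_involutions _ (hsq x hx2) (hne x hx) _
    (hsq u (by rw [← pow_two]; exact hc.sq_mem)) (hne u hc.not_mem)
  obtain ⟨g, hg⟩ := QuotientGroup.mk_surjective (e.symm c)
  have h1 : e ((g * x * g⁻¹ : G) : G ⧸ K) = e (u : G ⧸ K) := by
    rw [QuotientGroup.mk_mul, QuotientGroup.mk_mul, QuotientGroup.mk_inv, map_mul, map_mul,
      map_inv, hg, MulEquiv.apply_symm_apply, hcc]
  have h2 : u⁻¹ * (g * x * g⁻¹) ∈ K := QuotientGroup.eq.1 (e.injective h1).symm
  have h3 := hc.isConj _ h2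
  rw [mul_inv_cancel_left] at h3
  exact IsConj.trans (isConj_iff.2 ⟨g, rfl⟩) h3

theorem cent_eq (hu2 : u ^ 2 ≠ 1) : orderOf u = 4 ∧
    Subgroup.centralizer ({u} : Set G) = Subgroup.zpowers u := by
  haveI : Fact (Nat.Prime 2) := ⟨Nat.prime_two⟩
  have hmem : u ∈ Subgroup.centralizer ({u} : Set G) := Subgroup.mem_centralizer_singleton_iff.2 rfl
  have h4 : u ^ 4 = 1 := by
    have := pow_card_eq_one' (x := (⟨u, hmem⟩ : Subgroup.centralizer ({u} : Set G)))
    rw [hc.card_cent] at this
    exact congrArg Subtype.val this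
  have ho : orderOf u = 4 := orderOf_eq_prime_pow (p := 2) (n := 1) (by simpa using hu2) h4
  refine ⟨ho, (Subgroup.eq_of_le_of_card_ge (Subgroup.zpowers_le.2 hmem) ?_).symm⟩
  rw [hc.card_cent, Nat.card_zpowers, ho]

/-- A Sylow `2`-subgroup through `u`, its part `T` in `K`, and a second involution of the image. -/
theorem exists_sylow : ∃ (S : Sylow 2 G) (t : G), u ∈ S ∧ t ∈ S ∧ t ∉ K ∧ t * u ∉ K ∧
    t * t ∈ K ∧ t * u * (t * u) ∈ K ∧
    Nat.card (S : Subgroup G) = 4 * Nat.card (((S : Subgroup G) ⊓ K : Subgroup G)) ∧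
    (∀ a ∈ S, ∀ b ∈ S, a * b * a⁻¹ * b⁻¹ ∈ K) ∧
    ¬ 2 ∣ (((S : Subgroup G) ⊓ K).subgroupOf K).index := by
  classical
  haveI : Fact (Nat.Prime 2) := ⟨Nat.prime_two⟩
  obtain ⟨e⟩ := hc.iso
  have hmem : u ∈ Subgroup.centralizer ({u} : Set G) := Subgroup.mem_centralizer_singleton_iff.2 rfl
  have h4 : u ^ 4 = 1 := by
    have := pow_card_eq_one' (x := (⟨u, hmem⟩ : Subgroup.centralizer ({u} : Set G)))
    rw [hc.card_cent] at this
    exact congrArg Subtype.val this
  have hP : IsPGroup 2 (Subgroup.zpowers u) := by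
    obtain ⟨k, -, hk⟩ := (Nat.dvd_prime_pow Nat.prime_two).1
      (orderOf_dvd_of_pow_eq_one (show u ^ 2 ^ 2 = 1 by norm_num [h4]))
    exact IsPGroup.of_card (n := k) (by rw [Nat.card_zpowers, hk])
  obtain ⟨S, hS⟩ := hP.exists_le_sylow
  have huS : u ∈ (S : Subgroup G) := hS (Subgroup.mem_zpowers u)
  let f : (S : Subgroup G) →* G ⧸ K := (QuotientGroup.mk' K).comp (S : Subgroup G).subtype
  have hker : f.ker = ((S : Subgroup G) ⊓ K).subgroupOf (S : Subgroup G) := by
    ext x
    rw [MonoidHom.mem_ker, Subgroup.mem_subgroupOf, Subgroup.mem_inf]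
    show ((x : G) : G ⧸ K) = 1 ↔ _
    rw [QuotientGroup.eq_one_iff]
    exact ⟨fun h => ⟨x.2, h⟩, fun h => h.2⟩
  have hkc : Nat.card f.ker = Nat.card (((S : Subgroup G) ⊓ K : Subgroup G)) := by
    rw [hker]
    exact Nat.card_congr (Subgroup.subgroupOfEquivOfLe inf_le_left).toEquiv
  have hmul := f.ker.card_mul_index
  rw [Subgroup.index_ker, hkc] at hmul
  obtain ⟨b, hb⟩ := (S.2.to_le (inf_le_left : (S : Subgroup G) ⊓ K ≤ (S : Subgroup G))).exists_card_eq
  obtain ⟨c, hcr⟩ := (IsPGroup.of_surjective S.2 f.rangeRestrict f.rangeRestrict_surjective).exists_card_eq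
  have hbK : 2 ^ b ∣ Nat.card K := hb ▸ Subgroup.card_dvd_of_le inf_le_right
  have hc60 : 2 ^ c ∣ 60 := by
    have := Subgroup.card_subgroup_dvd_card f.range
    rwa [hcr, ← Subgroup.index_eq_card, hc.index_eq] at this
  rw [hb, hcr, S.card_eq_multiplicity, ← K.card_mul_index, hc.index_eq] at hmul
  have hK0 : Nat.card K ≠ 0 := Nat.card_pos.ne'
  have h60 : (60 : ℕ).factorization 2 = 2 := by
    rw [show (60 : ℕ) = 2 ^ 2 * 15 by norm_num, Nat.factorization_mul (by norm_num) (by norm_num),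
      Nat.Prime.factorization_pow Nat.prime_two]
    simp [Nat.factorization_eq_zero_of_not_dvd (show ¬ 2 ∣ 15 by norm_num)]
  rw [Nat.factorization_mul hK0 (by norm_num), Finsupp.add_apply, h60, ← pow_add] at hmul
  have e0 := Nat.pow_right_injective (le_refl 2) hmul
  have hb' := (Nat.prime_two.pow_dvd_iff_le_factorization hK0).1 hbK
  have hc' := (Nat.prime_two.pow_dvd_iff_le_factorization (by norm_num)).1 hc60
  rw [h60] at hc'
  obtain rfl : c = 2 := by omega
  have hodd : ¬ 2 ∣ (((S : Subgroup G) ⊓ K).subgroupOf K).index := by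
    intro hd
    have hi := (((S : Subgroup G) ⊓ K).subgroupOf K).card_mul_index
    rw [Nat.card_congr (Subgroup.subgroupOfEquivOfLe inf_le_right).toEquiv, hb] at hi
    have h2 : 2 ^ (b + 1) ∣ Nat.card K := by
      rw [← hi, pow_succ]
      exact Nat.mul_dvd_mul_left _ hd
    have := (Nat.prime_two.pow_dvd_iff_le_factorization hK0).1 h2
    omega
  have hcomm := IsPGroup.commutative_of_card_eq_prime_sq (p := 2) hcr
  have hab : ∀ a ∈ S, ∀ b ∈ S, a * b * a⁻¹ * b⁻¹ ∈ K := by
    intro a ha b' hb'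
    rw [← QuotientGroup.eq_one_iff]
    have := congrArg Subtype.val
      (hcomm (f.rangeRestrict ⟨a, ha⟩) (f.rangeRestrict ⟨b', hb'⟩))
    change ((a : G) : G ⧸ K) * (b' : G ⧸ K) = (b' : G ⧸ K) * (a : G ⧸ K) at this
    rw [QuotientGroup.mk_mul, QuotientGroup.mk_mul, QuotientGroup.mk_mul, this, QuotientGroup.mk_inv,
      QuotientGroup.mk_inv, mul_inv_cancel_right, mul_inv_cancel]
  obtain ⟨t, htS, ht1, ht2⟩ : ∃ t ∈ (S : Subgroup G), t ∉ K ∧ u⁻¹ * t ∉ K := by
    by_contra hcon
    push Not at hcon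
    have hle : f.range ≤ Subgroup.zpowers (u : G ⧸ K) := by
      rintro _ ⟨⟨x, hx⟩, rfl⟩
      by_cases hxK : x ∈ K
      · rw [show f ⟨x, hx⟩ = 1 from (QuotientGroup.eq_one_iff x).2 hxK]
        exact one_mem _
      · rw [show f ⟨x, hx⟩ = (u : G ⧸ K) from (QuotientGroup.eq.2 (hcon x hx hxK)).symm]
        exact Subgroup.mem_zpowers _
    have h1 := Subgroup.card_dvd_of_le hle
    rw [hcr, Nat.card_zpowers] at h1
    have h2 : orderOf (u : G ⧸ K) ∣ 2 := orderOf_dvd_of_pow_eq_one (by
      rw [← QuotientGroup.mk_pow, QuotientGroup.eq_one_iff]; exact hc.sq_mem)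
    have := Nat.le_of_dvd (by norm_num) (h1.trans h2)
    norm_num at this
  have hsq : ∀ x ∈ (S : Subgroup G), x * x ∈ K := by
    intro x hx
    rw [← QuotientGroup.eq_one_iff]
    have h := pow_card_eq_one' (x := f.rangeRestrict ⟨x, hx⟩)
    rw [hcr] at h
    have h' : ((x : G) : G ⧸ K) ^ 4 = 1 := congrArg Subtype.val h
    have h'' := alternatingFive_exponent (e (x : G ⧸ K)) (by rw [← map_pow, h', map_one])
    rw [← map_pow, MulEquiv.map_eq_one_iff, pow_two] at h''
    exact h''
  refine ⟨S, t, huS, htS, ht1, fun h => ht2 ?_, hsq t htS, hsq _ (mul_mem htS huS), ?_, hab, hodd⟩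
  · have h1 : u⁻¹ * t = u⁻¹ * (t * u) * (u⁻¹ * u⁻¹) * u := by group
    have h2 : u⁻¹ * t = u⁻¹ * ((t * u) * ((u * u)⁻¹)) * u := by
      rw [h1, mul_inv_rev]; group
    rw [h2]
    have h3 : (t * u) * ((u * u)⁻¹) ∈ K :=
      mul_mem h (inv_mem (by rw [← pow_two]; exact hc.sq_mem))
    simpa using ‹K.Normal›.conj_mem _ h3 u⁻¹
  · rw [hb, S.card_eq_multiplicity, ← K.card_mul_index, hc.index_eq,
      Nat.factorization_mul hK0 (by norm_num), Finsupp.add_apply, h60, pow_add, mul_comm]
    congr 1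
    congr 1
    omega

/-- The case of an involution. -/
theorem eq_bot_of_involution (hu2 : u ^ 2 = 1) : K = ⊥ := by
  obtain ⟨S, t, huS, htS, ht1, ht2, htt, htu, -, -, -⟩ := hc.exists_sylow
  have huu : u * u = 1 := by rw [← pow_two, hu2]
  have hinv : ∀ x, x ∉ K → x * x ∈ K → x * x = 1 := fun x h1 h2 => by
    obtain ⟨g, hg⟩ := isConj_iff.1 (hc.isConj_of_involution h1 h2)
    have : g * (x * x) * g⁻¹ = 1 := by rw [← huu, ← hg]; group
    simpa using this
  have hinv' : ∀ x, x ∉ K → x * x ∈ K → ∀ k ∈ K, x * k * x = k⁻¹ := fun x h1 h2 k hk => by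
    have h3 : x * k ∉ K := fun h => h1 (by simpa [mul_assoc] using mul_mem h (inv_mem hk))
    have hxx := hinv x h1 h2
    have h4 : x * k * (x * k) ∈ K := by
      have : x * k * x⁻¹ * (x * x) * k ∈ K := mul_mem (mul_mem (‹K.Normal›.conj_mem k hk x) h2) hk
      convert this using 1
      group
    have := hinv _ h3 h4
    exact eq_inv_of_mul_eq_one_left (by rw [← this]; group)
  have htt1 := hinv t ht1 htt
  have htu1 := hinv (t * u) ht2 htu
  have htucomm : t * u = u * t := by
    calc t * u = (t * u)⁻¹ := eq_inv_of_mul_eq_one_left htu1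
      _ = u * t := by
        rw [mul_inv_rev, inv_eq_of_mul_eq_one_right huu, inv_eq_of_mul_eq_one_right htt1]
  have hk2 : ∀ k ∈ K, k⁻¹ = k := fun k hk => by
    have h1 := hinv' (t * u) ht2 htu k hk
    have huk : u * k * u = k⁻¹ := hinv' u hc.not_mem (by rw [huu]; exact one_mem K) k hk
    have : t * u * k * (t * u) = t * (u * k * u) * t := by
      rw [show t * u * k * (t * u) = t * u * k * (u * t) by rw [← htucomm]]; group
    rw [this, huk, hinv' t ht1 htt _ (inv_mem hk), inv_inv] at h1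
    exact h1.symm
  have hkc : ∀ k ∈ K, u * k = k * u := fun k hk => by
    have huk : u * k * u = k⁻¹ := hinv' u hc.not_mem (by rw [huu]; exact one_mem K) k hk
    rw [hk2 k hk] at huk
    calc u * k = u * k * (u * u) := by rw [huu, mul_one]
      _ = u * k * u * u := by group
      _ = k * u := by rw [huk]
  let r : Fin 3 → G := ![1, u, t]
  have hrc : ∀ i, r i * u = u * r i := by
    intro i; fin_cases i <;> simp [r, htucomm]
  let F : Fin 3 × K → Subgroup.centralizer ({u} : Set G) := fun p =>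
    ⟨r p.1 * (p.2 : G), Subgroup.mem_centralizer_singleton_iff.2 (by
      rw [mul_assoc, ← hkc _ p.2.2, ← mul_assoc, hrc, mul_assoc])⟩
  have hne : ∀ i j, (r i)⁻¹ * r j ∈ K → i = j := by
    have htu' : u⁻¹ * t ∉ K := by
      rw [inv_eq_of_mul_eq_one_right huu, ← htucomm]; exact ht2
    have htu'' : t⁻¹ * u ∉ K := by rw [inv_eq_of_mul_eq_one_right htt1]; exact ht2
    intro i j h
    fin_cases i <;> fin_cases j <;>
      first
        | rfl
        | (exfalso; revert h; simp [r, hc.not_mem, ht1, htu', htu''])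
  have hinjF : Function.Injective F := by
    intro p q hpq
    have h : r p.1 * (p.2 : G) = r q.1 * (q.2 : G) := congrArg Subtype.val hpq
    have hij : p.1 = q.1 := hne _ _ (by
      have : (r p.1)⁻¹ * r q.1 = (p.2 : G) * (q.2 : G)⁻¹ := by
        rw [inv_mul_eq_iff_eq_mul, ← mul_assoc, h, mul_inv_cancel_right]
      rw [this]
      exact mul_mem p.2.2 (inv_mem q.2.2))
    rw [hij] at h
    exact Prod.ext hij (Subtype.ext (mul_left_cancel h))
  have h := Nat.card_le_card_of_injective F hinjF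
  rw [hc.card_cent, Nat.card_prod, Nat.card_eq_fintype_card (α := Fin 3), Fintype.card_fin] at h
  have := Nat.card_pos (α := K)
  exact Subgroup.card_eq_one.1 (by omega)

/-- The case of an element of order four. -/
theorem structure_of_four (hu2 : u ^ 2 ≠ 1) :
    IsMulCommutative ↥(Cfsg.oddCore G) ∧
      Nonempty (G ⧸ Cfsg.oddCore G ≃* SL(2, ZMod 5)) ∧ orderOf u = 4 := by
  classical
  haveI : Fact (Nat.Prime 2) := ⟨Nat.prime_two⟩
  obtain ⟨S, t, huS, htS, ht1, ht2, htt, htu, hcardS, hab, hodd⟩ := hc.exists_sylow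
  obtain ⟨ho, hcent⟩ := hc.cent_eq hu2
  set z := u * u with hz
  have hzK : z ∈ K := by rw [hz, ← pow_two]; exact hc.sq_mem
  have hz1 : z ≠ 1 := by rw [hz, ← pow_two]; exact hu2
  have hzz : z * z = 1 := by
    rw [hz, ← pow_two, ← pow_two, ← pow_mul, show 2 * 2 = orderOf u by rw [ho]]
    exact pow_orderOf_eq_one u
  have hzo : orderOf z = 2 := orderOf_eq_prime (by rw [pow_two, hzz]) hz1
  -- properties shared by all preimages of involutions
  have hlift : ∀ x, x ∉ K → x * x ∈ K →
      x * x ≠ 1 ∧ ∀ y, y * x = x * y → y ∈ Subgroup.zpowers x := by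
    intro x h1 h2
    obtain ⟨g, hg⟩ := isConj_iff.1 (hc.isConj_of_involution h1 h2)
    refine ⟨fun h => hz1 ?_, fun y hy => ?_⟩
    · have hz' : g * (x * x) * g⁻¹ = z := by rw [hz, ← hg]; group
      rw [← hz', h]; group
    · have : g * y * g⁻¹ ∈ Subgroup.centralizer ({u} : Set G) :=
        Subgroup.mem_centralizer_singleton_iff.2 (by
          rw [← hg]
          calc g * y * g⁻¹ * (g * x * g⁻¹) = g * (y * x) * g⁻¹ := by group
            _ = g * (x * y) * g⁻¹ := by rw [hy]
            _ = g * x * g⁻¹ * (g * y * g⁻¹) := by group)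
      rw [hcent, ← hg, Subgroup.mem_zpowers_iff] at this
      obtain ⟨n, hn⟩ := this
      rw [conj_zpow] at hn
      exact ⟨n, by simpa using hn⟩
  set T : Subgroup G := (S : Subgroup G) ⊓ K with hTdef
  have hzT : z ∈ T := ⟨mul_mem huS huS, hzK⟩
  -- `T` is the derived subgroup of `S`
  let S' : Subgroup G := (S : Subgroup G)
  let uS : S' := ⟨u, huS⟩
  have hCS : Nat.card (Subgroup.centralizer ({uS} : Set S')) = 4 := by
    refine le_antisymm ?_ ?_
    · rw [← hc.card_cent]
      refine Nat.card_le_card_of_injective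
        (fun x => ⟨((x : S') : G), Subgroup.mem_centralizer_singleton_iff.2
          (congrArg Subtype.val (Subgroup.mem_centralizer_singleton_iff.1 x.2))⟩) ?_
      intro a b h
      exact Subtype.ext (Subtype.ext (congrArg Subtype.val h :))
    · have h1 : Subgroup.zpowers uS ≤ Subgroup.centralizer ({uS} : Set S') :=
        Subgroup.zpowers_le.2 (Subgroup.mem_centralizer_singleton_iff.2 rfl)
      have h2 := Nat.le_of_dvd Nat.card_pos (Subgroup.card_dvd_of_le h1)
      rwa [Nat.card_zpowers, Subgroup.orderOf_mk, ho] at h2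
  have hclass : Nat.card {x : S' // IsConj uS x} = Nat.card T := by
    have h := Char.card_centralizer_mul_card_conj uS
    rw [hCS] at h
    have h2 : Nat.card S' = 4 * Nat.card T := hcardS
    omega
  let j : {x : S' // IsConj uS x} → T := fun x => ⟨u⁻¹ * ((x : S') : G), by
    obtain ⟨s, hs⟩ := isConj_iff.1 x.2
    have hx : ((x : S') : G) = (s : G) * u * (s : G)⁻¹ := (congrArg Subtype.val hs).symm
    refine Subgroup.mem_inf.2 ⟨S'.mul_mem (S'.inv_mem huS) x.1.2, ?_⟩
    have h2 := ‹K.Normal›.conj_mem _ (hab s s.2 u huS) u⁻¹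
    rw [hx]
    convert h2 using 1
    group⟩
  have hjinj : Function.Injective j := fun a b h =>
    Subtype.ext (Subtype.ext (mul_left_cancel (congrArg Subtype.val h)))
  haveI : Finite {x : S' // IsConj uS x} := Subtype.finite
  have hjs : Function.Surjective j :=
    ((Nat.bijective_iff_injective_and_card j).2 ⟨hjinj, hclass⟩).2
  have hcomm : commutator S' = T.subgroupOf S' := by
    refine le_antisymm ?_ fun x hx => ?_
    · rw [_root_.commutator_def, Subgroup.commutator_le]
      intro a _ b _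
      rw [Subgroup.mem_subgroupOf, commutatorElement_def]
      exact ⟨(a * b * a⁻¹ * b⁻¹ : S').2, hab a a.2 b b.2⟩
    · obtain ⟨⟨y, hy⟩, hyj⟩ := hjs ⟨(x : G), Subgroup.mem_subgroupOf.1 hx⟩
      obtain ⟨s, hs⟩ := isConj_iff.1 hy
      have hxe : x = ⁅uS⁻¹, s⁆ := by
        apply Subtype.ext
        have h1 : (x : G) = u⁻¹ * (y : G) := (congrArg Subtype.val hyj).symm
        rw [h1, ← hs, commutatorElement_def]
        simp only [Subgroup.coe_mul, Subgroup.coe_inv, uS]
        group
      rw [hxe, _root_.commutator_def]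
      exact Subgroup.commutator_mem_commutator (Subgroup.mem_top _) (Subgroup.mem_top _)
  have hidx : (commutator S').index = 4 := by
    have h1 := (T.subgroupOf S').card_mul_index
    rw [Nat.card_congr (Subgroup.subgroupOfEquivOfLe (inf_le_left : T ≤ S')).toEquiv] at h1
    rw [hcomm]
    have h2 : Nat.card S' = 4 * Nat.card T := hcardS
    rw [h2, mul_comm 4] at h1
    exact Nat.eq_of_mul_eq_mul_left Nat.card_pos h1
  have hT2 : 2 ∣ Nat.card T := hzo ▸ Subgroup.orderOf_dvd_natCard T hzT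
  obtain ⟨n, hn⟩ := S.2.exists_card_eq
  obtain ⟨m, rfl, hm⟩ : ∃ m, n = m + 1 ∧ 2 ≤ m := by
    have h8 : 8 ∣ 2 ^ n := by
      rw [← hn]
      show 8 ∣ Nat.card S'
      rw [show Nat.card S' = 4 * Nat.card T from hcardS]
      exact Nat.mul_dvd_mul_left 4 hT2
    have h3 : 3 ≤ n := (Nat.pow_dvd_pow_iff_le_right one_lt_two).1 h8
    exact ⟨n - 1, by omega, by omega⟩
  obtain ⟨C, hC, hCi⟩ := PGroup.exists_cyclic_index_two_of_commutator (G := S')
    (by omega : 3 ≤ m + 1) hn hidx
  haveI : IsCyclic T := by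
    haveI := hC
    have hCn : C.Normal := Subgroup.normal_of_index_eq_two hCi
    have hle : commutator S' ≤ C := by
      haveI : IsCyclic (S' ⧸ C) := isCyclic_of_prime_card (p := 2) hCi
      exact Subgroup.Normal.quotient_commutative_iff_commutator_le.1
        ⟨⟨fun a b => IsCyclic.commGroup.mul_comm a b⟩⟩
    rw [hcomm] at hle
    haveI : IsCyclic (T.subgroupOf S') :=
      isCyclic_of_injective (Subgroup.inclusion hle) (Subgroup.inclusion_injective hle)
    exact isCyclic_of_surjective (Subgroup.subgroupOfEquivOfLe (inf_le_left : T ≤ S')).toMonoidHom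
      (MulEquiv.surjective _)
  -- the normal `2`-complement of `K`
  let P : Sylow 2 K :=
    IsPGroup.toSylow ((S.2.to_le (inf_le_left : T ≤ S')).of_equiv
      (Subgroup.subgroupOfEquivOfLe (inf_le_right : T ≤ K)).symm) hodd
  have hPK : (P : Subgroup K) = T.subgroupOf K := rfl
  have hPcyc : IsCyclic P := isCyclic_of_surjective
    (Subgroup.subgroupOfEquivOfLe (inf_le_right : T ≤ K)).symm.toMonoidHom (MulEquiv.surjective _)
  have hmin : (Nat.card K).minFac = 2 :=
    (Nat.minFac_eq_two_iff _).2 (hT2.trans (Subgroup.card_dvd_of_le inf_le_right))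
  set φ := MonoidHom.transferSylow P (hPcyc.normalizer_le_centralizer hmin) with hφ
  have hcompl : φ.ker.IsComplement' P := IsCyclic.isComplement' hmin hPcyc
  set O : Subgroup G := φ.ker.map K.subtype with hO
  have hOodd : ¬ 2 ∣ Nat.card O := by
    rw [hO, Subgroup.card_map_of_injective K.subtype_injective, ← hcompl.index_eq_card]
    exact P.not_dvd_index
  have hmemO : ∀ x, x ∈ O ↔ x ∈ K ∧ Odd (orderOf x) := by
    intro x
    constructor
    · intro hx
      refine ⟨Subgroup.map_subtype_le _ hx, ?_⟩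
      rw [← Nat.not_even_iff_odd, even_iff_two_dvd]
      exact fun h => hOodd (h.trans (Subgroup.orderOf_dvd_natCard O hx))
    · rintro ⟨hxK, hx⟩
      refine ⟨⟨x, hxK⟩, ?_, rfl⟩
      show φ ⟨x, hxK⟩ = 1
      obtain ⟨k, hk⟩ := P.2 (φ ⟨x, hxK⟩)
      rw [← orderOf_eq_one_iff]
      have h1 : orderOf (φ ⟨x, hxK⟩) ∣ orderOf x := by
        exact (orderOf_map_dvd φ ⟨x, hxK⟩).trans (dvd_of_eq (Subgroup.orderOf_mk x hxK))
      exact Nat.eq_one_of_dvd_coprimes (Nat.Coprime.pow_left k (Nat.coprime_two_left.2 hx))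
        (orderOf_dvd_of_pow_eq_one hk) h1
  haveI hOn : O.Normal := ⟨fun x hx g => by
    rw [hmemO] at hx ⊢
    refine ⟨‹K.Normal›.conj_mem x hx.1 g, ?_⟩
    have e : orderOf (g * x * g⁻¹) = orderOf x := by
      simpa using orderOf_injective (MulAut.conj g).toMonoidHom (MulEquiv.injective _) x
    rw [e]
    exact hx.2⟩
  have hOK : O ≤ K := Subgroup.map_subtype_le _
  -- `K = T O` and the image of `T` is central
  have hKTO : ∀ k ∈ K, ∃ a ∈ T, a⁻¹ * k ∈ O := by
    intro k hk
    obtain ⟨⟨⟨o, ho'⟩, ⟨p, hp'⟩⟩, hop⟩ := hcompl.2 ⟨k, hk⟩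
    refine ⟨(p : G), Subgroup.mem_subgroupOf.1 hp', ?_⟩
    have h1 : k = (o : G) * (p : G) := (congrArg Subtype.val hop).symm
    have h2 := hOn.conj_mem _ ⟨o, ho', rfl⟩ (p : G)⁻¹
    rw [h1]
    simpa [mul_assoc] using h2
  set q := QuotientGroup.mk' O with hq
  have hTO : ∀ a ∈ T, a ∈ O → a = 1 := by
    intro a haT haO
    obtain ⟨k, hk⟩ := S.2 ⟨a, haT.1⟩
    have hk' : a ^ 2 ^ k = 1 := congrArg Subtype.val hk
    exact orderOf_eq_one_iff.1 (Nat.eq_one_of_dvd_coprimes
      (Nat.Coprime.pow_left k (Nat.coprime_two_left.2 ((hmemO a).1 haO).2))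
      (orderOf_dvd_of_pow_eq_one hk') dvd_rfl)
  haveI : (K.map q).Normal := ‹K.Normal›.map q (QuotientGroup.mk'_surjective O)
  haveI : IsCyclic (K.map q) := by
    let r : T →* K.map q :=
      { toFun := fun a => ⟨q (a : G), ⟨a, a.2.2, rfl⟩⟩
        map_one' := Subtype.ext (map_one q)
        map_mul' := fun a b => Subtype.ext (map_mul q a.1 b.1) }
    refine isCyclic_of_surjective r fun y => ?_
    obtain ⟨k, hk, hky⟩ := y.2
    obtain ⟨a, haT, ha⟩ := hKTO k hk
    refine ⟨⟨a, haT⟩, Subtype.ext ?_⟩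
    show q a = y.1
    rw [← hky]
    exact QuotientGroup.eq.2 ha
  have hperfH : commutator (G ⧸ O) = ⊤ := by
    have h := congrArg (Subgroup.map q) hc.perfect
    rwa [_root_.commutator_def, Subgroup.map_commutator,
      Subgroup.map_top_of_surjective _ (QuotientGroup.mk'_surjective O), ← _root_.commutator_def] at h
  have hTu : ∀ a ∈ T, a * u = u * a := by
    intro a ha
    have h1 := commute_of_cyclic_normal hperfH (K.map q) (Subgroup.mem_map_of_mem q ha.2) (q u)
    rw [← map_mul, ← map_mul] at h1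
    have h2 : (u * a)⁻¹ * (a * u) ∈ O := QuotientGroup.eq.1 h1
    have h3 : (u * a)⁻¹ * (a * u) ∈ T :=
      Subgroup.mem_inf.2 ⟨S'.mul_mem (S'.inv_mem (S'.mul_mem huS ha.1)) (S'.mul_mem ha.1 huS), by
        have h4 := ‹K.Normal›.conj_mem _ (hab a ha.1 u huS) (u * a)⁻¹
        convert h4 using 1
        group⟩
    exact (inv_mul_eq_one.1 (hTO _ h3 h2)).symm
  have hTz : ∀ a ∈ T, a = 1 ∨ a = z := by
    intro a ha
    have hau : a ∈ Subgroup.zpowers u := by
      rw [← hcent]; exact Subgroup.mem_centralizer_singleton_iff.2 (hTu a ha)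
    obtain ⟨i, hi⟩ := hau
    have h4 : u ^ (4 : ℤ) = 1 := by
      rw [zpow_ofNat, ← ho]; exact pow_orderOf_eq_one u
    have hi' : a = u ^ (i % 4) := by
      show a = u ^ (i % 4)
      rw [← hi]
      show u ^ i = u ^ (i % 4)
      conv_lhs => rw [← Int.emod_add_mul_ediv i 4, zpow_add, zpow_mul, h4, one_zpow, mul_one]
    have hcases : i % 4 = 0 ∨ i % 4 = 1 ∨ i % 4 = 2 ∨ i % 4 = 3 := by omega
    rcases hcases with h | h | h | h <;> rw [h] at hi'
    · left; simpa using hi'
    · rw [zpow_one] at hi'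
      exact absurd (hi' ▸ ha.2) hc.not_mem
    · right; rw [hi', hz, zpow_ofNat, pow_two]
    · refine absurd ?_ hc.not_mem
      have h3 : a = z * u := by rw [hi', hz, zpow_ofNat, pow_succ, pow_two]
      have := mul_mem (inv_mem hzK) (h3 ▸ ha.2)
      simpa using this
  have hcardT : Nat.card T = 2 := by
    have : T = Subgroup.zpowers z := le_antisymm (fun a ha => by
      rcases hTz a ha with rfl | rfl
      · exact one_mem _
      · exact Subgroup.mem_zpowers _) (Subgroup.zpowers_le.2 hzT)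
    rw [this, Nat.card_zpowers, hzo]
  have hcardK : Nat.card K = 2 * Nat.card O := by
    have h := hcompl.card_mul
    have h2 : Nat.card P = Nat.card T :=
      Nat.card_congr (Subgroup.subgroupOfEquivOfLe (inf_le_right : T ≤ K)).toEquiv
    rw [h2, hcardT] at h
    rw [hO, Subgroup.card_map_of_injective K.subtype_injective, mul_comm]
    exact h.symm
  -- the odd core
  have hcore : Cfsg.oddCore G = O := by
    refine le_antisymm (PCore.pPrimeCore_le_iff.2 fun N hN hNc => ?_) ?_
    · have hNodd : ∀ x ∈ N, Odd (orderOf x) := fun x hx => Nat.coprime_two_right.1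
        (hNc.coprime_dvd_left (Subgroup.orderOf_dvd_natCard N hx))
      have hNK : N ≤ K := by
        haveI := hc.isSimple
        rcases IsSimpleGroup.eq_bot_or_eq_top_of_normal _
          (hN.map (QuotientGroup.mk' K) (QuotientGroup.mk'_surjective K)) with h | h
        · have := (Subgroup.map_eq_bot_iff N).1 h
          rwa [QuotientGroup.ker_mk'] at this
        · exfalso
          have hd : Nat.card (G ⧸ K) ∣ Nat.card N := by
            have h1 := Subgroup.card_map_dvd N (QuotientGroup.mk' K)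
            rwa [h, Subgroup.card_top] at h1
          rw [← Subgroup.index_eq_card, hc.index_eq] at hd
          have := hNc.coprime_dvd_left ((show 2 ∣ 60 by norm_num).trans hd)
          norm_num at this
      exact fun x hx => (hmemO x).2 ⟨hNK hx, hNodd x hx⟩
    · exact PCore.le_oddCore (Nat.not_even_iff_odd.1 fun h => hOodd (even_iff_two_dvd.1 h))
  -- `z` inverts `O`
  have hcardS8 : Nat.card S' = 8 := by rw [show Nat.card S' = 4 * Nat.card T from hcardS, hcardT]
  have hsquare : ∀ x ∈ (S : Subgroup G), x ∉ K → x * x ∈ K → x * x = z := by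
    intro x hx h1 h2
    exact (hTz _ ⟨mul_mem hx hx, h2⟩).resolve_left (hlift x h1 h2).1
  let D : Subgroup G := O ⊓ Subgroup.centralizer ({z} : Set G)
  have hDfix : ∀ x ∈ (S : Subgroup G), x ∉ K → x * x ∈ K → ∀ d ∈ D, x * d * x⁻¹ = d⁻¹ := by
    intro x hx h1 h2
    have hxz := hsquare x hx h1 h2
    refine (inverts_of_fpf D x (fun d hd => ⟨hOn.conj_mem d hd.1 x, ?_⟩) (fun d hd => ?_)
      (fun d hd hfd => ?_)).1
    · refine Subgroup.mem_centralizer_singleton_iff.2 ?_
      have hdz := Subgroup.mem_centralizer_singleton_iff.1 hd.2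
      have hxc : x * z = z * x := by rw [← hxz, mul_assoc]
      calc x * d * x⁻¹ * z = x * d * (x⁻¹ * z) := by group
        _ = x * d * (z * x⁻¹) := by
            rw [show x⁻¹ * z = z * x⁻¹ from by
              rw [inv_mul_eq_iff_eq_mul, ← mul_assoc, hxc, mul_inv_cancel_right]]
        _ = x * (d * z) * x⁻¹ := by group
        _ = x * (z * d) * x⁻¹ := by rw [hdz]
        _ = x * z * d * x⁻¹ := by group
        _ = z * (x * d * x⁻¹) := by rw [hxc]; group
    · have hdz := Subgroup.mem_centralizer_singleton_iff.1 hd.2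
      calc x * (x * d * x⁻¹) * x⁻¹ = (x * x) * d * (x * x)⁻¹ := by group
        _ = d := by rw [hxz, ← hdz, mul_inv_cancel_right]
    · obtain ⟨i, hi⟩ := (hlift x h1 h2).2 d (mul_inv_eq_iff_eq_mul.1 hfd).symm
      have hpow : d ^ 4 = 1 := by
        rw [← hi]
        show (x ^ i) ^ 4 = 1
        rw [← zpow_natCast, ← zpow_mul, mul_comm, zpow_mul, zpow_natCast]
        rw [show x ^ 4 = (x * x) * (x * x) by simp [pow_succ, mul_assoc], hxz, hzz, one_zpow]
      exact orderOf_eq_one_iff.1 (Nat.eq_one_of_dvd_coprimes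
        (Nat.Coprime.pow_left 2 (Nat.coprime_two_left.2 ((hmemO d).1 hd.1).2))
        (orderOf_dvd_of_pow_eq_one hpow) dvd_rfl)
  have hD : ∀ d ∈ D, d = 1 := by
    intro d hd
    have e1 := hDfix u huS hc.not_mem hzK d hd
    have e2 := hDfix t htS ht1 htt d⁻¹ (inv_mem hd)
    have e3 := hDfix (t * u) (mul_mem htS huS) ht2 htu d hd
    have e4 : t * u * d * (t * u)⁻¹ = t * (u * d * u⁻¹) * t⁻¹ := by group
    rw [e4, e1, e2, inv_inv] at e3
    have h2 : d ^ 2 = 1 := by rw [pow_two]; exact eq_inv_iff_mul_eq_one.1 e3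
    exact orderOf_eq_one_iff.1 (Nat.eq_one_of_dvd_coprimes
      (Nat.coprime_two_left.2 ((hmemO d).1 hd.1).2) (orderOf_dvd_of_pow_eq_one h2) dvd_rfl)
  have hOab : IsMulCommutative O :=
    (inverts_of_fpf O z (fun d hd => hOn.conj_mem d hd z)
      (fun d hd => by
        calc z * (z * d * z⁻¹) * z⁻¹ = (z * z) * d * (z * z)⁻¹ := by group
          _ = d := by rw [hzz]; group)
      (fun d hd hfd => hD d ⟨hd, Subgroup.mem_centralizer_singleton_iff.2
        (mul_inv_eq_iff_eq_mul.1 hfd).symm⟩)).2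
  -- the quotient is `SL(2, 5)`
  have hHcard : Nat.card (G ⧸ O) = 120 := by
    have h1 := O.card_eq_card_quotient_mul_card_subgroup
    rw [← K.card_mul_index, hc.index_eq, hcardK] at h1
    have h2 : Nat.card (G ⧸ O) * Nat.card O = 120 * Nat.card O := by rw [← h1]; ring
    exact Nat.eq_of_mul_eq_mul_right Nat.card_pos h2
  have hns : ¬ Group.IsSolvable (G ⧸ O) := by
    intro hs
    haveI : Nontrivial (G ⧸ O) := Finite.one_lt_card_iff_nontrivial.1 (by omega)
    have := Group.IsSolvable.commutator_lt_top_of_nontrivial (G ⧸ O)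
    rw [hperfH] at this
    exact lt_irrefl _ this
  have hinvol : ∀ h : G ⧸ O, h * h = 1 → h = 1 ∨ h = q z := by
    intro h hh
    obtain ⟨x, rfl⟩ := QuotientGroup.mk'_surjective O h
    have hxO : x * x ∈ O := (QuotientGroup.eq_one_iff _).1 hh
    by_cases hxK : x ∈ K
    · obtain ⟨a, haT, ha⟩ := hKTO x hxK
      have he : q x = q a := (QuotientGroup.eq.2 ha).symm
      rcases hTz a haT with rfl | rfl
      · exact Or.inl (he.trans (map_one q))
      · exact Or.inr he
    · exfalso
      obtain ⟨g, hg⟩ := isConj_iff.1 (hc.isConj_of_involution hxK (hOK hxO))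
      have : z ∈ O := by
        have h1 := hOn.conj_mem _ hxO g
        rw [hz, ← hg]
        convert h1 using 1
        group
      exact hz1 (hTO z hzT this)
  refine ⟨hcore ▸ hOab, ?_, ho⟩
  suffices h : Nonempty (G ⧸ O ≃* SL(2, ZMod 5)) by
    obtain ⟨E⟩ := h
    exact ⟨(QuotientGroup.quotientMulEquivOfEq hcore).trans E⟩
  refine Cfsg.Agent.S3378.result.1 (G ⧸ O) hHcard hns fun Q => ?_
  have hQc : Nat.card (Q : Subgroup (G ⧸ O)) = 2 ^ 3 := by
    rw [Q.card_eq_multiplicity, hHcard]
    congr 1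
    rw [show (120 : ℕ) = 2 ^ 3 * 15 by norm_num, Nat.factorization_mul (by norm_num) (by norm_num),
      Nat.Prime.factorization_pow Nat.prime_two]
    simp [Nat.factorization_eq_zero_of_not_dvd (show ¬ 2 ∣ 15 by norm_num)]
  have huniq : ∀ A B : Subgroup Q, Nat.card A = 2 → Nat.card B = 2 → A = B := by
    have key : ∀ A : Subgroup Q, Nat.card A = 2 → ∀ a : Q, a ∈ A ↔
        ((a : G ⧸ O) = 1 ∨ (a : G ⧸ O) = q z) := by
      intro A hA a
      have hsq : ∀ b ∈ A, (b : G ⧸ O) * (b : G ⧸ O) = 1 := fun b hb => by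
        have h := pow_card_eq_one' (x := (⟨b, hb⟩ : A))
        rw [hA, pow_two] at h
        exact congrArg (fun x : A => ((x : Q) : G ⧸ O)) h
      haveI : Nontrivial A := Finite.one_lt_card_iff_nontrivial.1 (by rw [hA]; norm_num)
      obtain ⟨b, hb⟩ := exists_ne (1 : A)
      have hbz : ((b : Q) : G ⧸ O) = q z :=
        (hinvol _ (hsq b b.2)).resolve_left fun h => hb (Subtype.ext (Subtype.ext h))
      constructor
      · exact fun ha => hinvol _ (hsq a ha)
      · rintro (h | h)
        · rw [show a = 1 from Subtype.ext h]; exact A.one_mem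
        · rw [show a = (b : Q) from Subtype.ext (h.trans hbz.symm)]; exact b.2
    exact fun A B hA hB => Subgroup.ext fun a => (key A hA a).trans (key B hB a).symm
  rcases PGroup.cyclic_or_quaternion_of_unique Q.2 huniq with hcy | ⟨-, n, hn, hcn, hq'⟩
  · exfalso
    obtain ⟨a, ha⟩ := hcy.exists_generator
    have hoa : orderOf (a : G ⧸ O) = 8 := by
      rw [Subgroup.orderOf_coe, orderOf_eq_card_of_forall_mem_zpowers ha, hQc]; norm_num
    obtain ⟨x, hx⟩ := QuotientGroup.mk'_surjective O (a : G ⧸ O)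
    obtain ⟨e⟩ := hc.iso
    let p : G ⧸ O →* G ⧸ K := QuotientGroup.map O K (MonoidHom.id G) hOK
    have hp8 : (p (a : G ⧸ O)) ^ 8 = 1 := by
      rw [← map_pow, ← hoa, pow_orderOf_eq_one, map_one]
    have h60 : ∀ y : alternatingGroup (Fin 5), y ^ 8 = 1 → y ^ 2 = 1 := by decide +kernel
    have hp2 : p ((a : G ⧸ O) ^ 2) = 1 := e.injective (by
      rw [map_pow, map_pow, map_one]
      exact h60 _ (by rw [← map_pow, hp8, map_one]))
    have hx2 : x ^ 2 ∈ K := by
      rw [← hx, ← map_pow] at hp2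
      exact (QuotientGroup.eq_one_iff _).1 hp2
    obtain ⟨b, hbT, hb⟩ := hKTO _ hx2
    have he : (a : G ⧸ O) ^ 2 = q b := by
      rw [← hx, ← map_pow]; exact (QuotientGroup.eq.2 hb).symm
    have : (a : G ⧸ O) ^ 4 = 1 := by
      rw [show 4 = 2 * 2 from rfl, pow_mul, he]
      rcases hTz b hbT with rfl | rfl
      · rw [map_one, one_pow]
      · rw [pow_two, ← map_mul, hzz, map_one]
    have := orderOf_dvd_of_pow_eq_one this
    rw [hoa] at this
    norm_num at this
  · obtain ⟨n, rfl⟩ : ∃ m, n = m + 1 := ⟨n - 1, by omega⟩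
    rw [hQc] at hcn
    have := Nat.pow_right_injective (le_refl 2) hcn
    obtain rfl : n = 0 := by omega
    exact hq'

/-- The conclusion. -/
theorem main :
    IsMulCommutative ↥(Cfsg.oddCore G) ∧
      ((Nonempty (G ⧸ Cfsg.oddCore G ≃* Matrix.ProjectiveSpecialLinearGroup (Fin 2) (ZMod 5)) ∧
          orderOf u = 2) ∨
        (Nonempty (G ⧸ Cfsg.oddCore G ≃* Matrix.SpecialLinearGroup (Fin 2) (ZMod 5)) ∧
          orderOf u = 4)) := by
  haveI : Fact (Nat.Prime 5) := ⟨Nat.prime_five⟩
  haveI : Fact (Nat.Prime 2) := ⟨Nat.prime_two⟩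
  by_cases hu2 : u ^ 2 = 1
  · have hK := hc.eq_bot_of_involution hu2
    obtain ⟨e⟩ := hc.iso
    obtain ⟨f⟩ := PSL2.psl_four_five_iso (F := ZMod 5) (Or.inr (ZMod.card 5))
    have e0 : G ≃* alternatingGroup (Fin 5) :=
      QuotientGroup.quotientBot.symm.trans ((QuotientGroup.quotientMulEquivOfEq hK.symm).trans e)
    have hcore : Cfsg.oddCore G = ⊥ := by
      refine PCore.pPrimeCore_eq_bot_iff.2 fun N hN hNc => ?_
      haveI := hc.isSimple
      haveI : IsSimpleGroup G := by
        haveI : Nontrivial G := e0.toEquiv.nontrivial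
        exact IsSimpleGroup.isSimpleGroup_of_surjective
          ((QuotientGroup.quotientMulEquivOfEq hK).trans QuotientGroup.quotientBot).toMonoidHom
          (MulEquiv.surjective _)
      refine (IsSimpleGroup.eq_bot_or_eq_top_of_normal N hN).resolve_right fun h => ?_
      rw [h, Subgroup.card_top, Nat.card_congr e0.toEquiv, nat_card_alternatingGroup,
        Nat.card_fin] at hNc
      exact absurd hNc (by decide)
    refine ⟨?_, Or.inl ⟨?_, orderOf_eq_prime hu2 fun h => hc.not_mem (h ▸ one_mem K)⟩⟩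
    · rw [hcore]
      exact ⟨⟨fun a b => Subsingleton.elim _ _⟩⟩
    · exact ⟨(QuotientGroup.quotientMulEquivOfEq hcore).trans
        (QuotientGroup.quotientBot.trans (e0.trans f.symm))⟩
  · obtain ⟨h1, h2, h3⟩ := hc.structure_of_four hu2
    exact ⟨h1, Or.inr ⟨h2, h3⟩⟩

end Config

end Cfsg.Agent.ColumnFour
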