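import Cfsg.Agent.Lib.PSL2.Classify
import Cfsg.Agent.Lib.CharInt.Burnside
import Mathlib.LinearAlgebra.CrossProduct
import Mathlib.LinearAlgebra.Matrix.Adjugate
import Mathlib.Analysis.Complex.Polynomial.Basic

/-!
# Finite perfect groups preserving a symmetric form in dimension three

A non-trivial finite perfect group of complex `3 × 3` matrices of determinant one which preserves
a non-degenerate symmetric bilinear form is isomorphic to the alternating group of degree five.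
Each non-trivial element fixes exactly one line, and the stabilisers of these lines form a
partition of the type handled by Dickson's counting.
-/

set_option autoImplicit false
set_option linter.unusedSectionVars false

namespace Cfsg.Agent.ColumnFour.Rotation

open Matrix

/-- The matrix of the cross product with `v`. -/
def skew (v : Fin 3 → ℂ) : Matrix (Fin 3) (Fin 3) ℂ :=
  !![0, -v 2, v 1; v 2, 0, -v 0; -v 1, v 0, 0]

theorem skew_mulVec_self (v : Fin 3 → ℂ) : skew v *ᵥ v = 0 := by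
  funext i
  fin_cases i <;> simp [skew, Matrix.mulVec, dotProduct, Fin.sum_univ_three] <;> ring

theorem transpose_skew_mul (A : Matrix (Fin 3) (Fin 3) ℂ) (v : Fin 3 → ℂ) :
    Aᵀ * skew (A *ᵥ v) * A = A.det • skew v := by
  ext i j
  fin_cases i <;> fin_cases j <;>
    simp [skew, Matrix.mul_apply, Matrix.mulVec, dotProduct, Fin.sum_univ_three,
      Matrix.det_fin_three] <;> ring

/-- The matrix with the three given columns. -/
def cols (a b c : Fin 3 → ℂ) : Matrix (Fin 3) (Fin 3) ℂ :=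
  Matrix.of fun i j => ![a i, b i, c i] j

theorem cols_mulVec (a b c x : Fin 3 → ℂ) :
    cols a b c *ᵥ x = x 0 • a + x 1 • b + x 2 • c := by
  funext i
  simp [cols, Matrix.mulVec, dotProduct, Fin.sum_univ_three]
  ring

theorem mul_cols (A : Matrix (Fin 3) (Fin 3) ℂ) (a b c : Fin 3 → ℂ) :
    A * cols a b c = cols (A *ᵥ a) (A *ᵥ b) (A *ᵥ c) := by
  ext i j
  fin_cases j <;> simp [cols, Matrix.mul_apply, Matrix.mulVec, dotProduct]

theorem det_cols (a b c : Fin 3 → ℂ) : (cols a b c).det = c ⬝ᵥ (a ⨯₃ b) := by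
  simp [cols, Matrix.det_fin_three, cross_apply, dotProduct, Fin.sum_univ_three]
  ring

theorem det_cols_smul (a b c : Fin 3 → ℂ) (x y z : ℂ) :
    (cols (x • a) (y • b) (z • c)).det = x * y * z * (cols a b c).det := by
  simp [cols, Matrix.det_fin_three]
  ring

theorem det_cols_swap (a b c : Fin 3 → ℂ) : (cols a c b).det = -(cols a b c).det := by
  simp [cols, Matrix.det_fin_three]
  ring

variable {G : Type*} [Group G]

/-- A faithful three-dimensional representation by isometries of determinant one. -/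
structure Isometric (G : Type*) [Group G] where
  /-- The representation. -/
  A : G →* Matrix (Fin 3) (Fin 3) ℂ
  inj : Function.Injective A
  det_one : ∀ g, (A g).det = 1
  /-- The form. -/
  M : Matrix (Fin 3) (Fin 3) ℂ
  symm : Mᵀ = M
  nondeg : M.det ≠ 0
  invariant : ∀ g, (A g)ᵀ * M * A g = M

namespace Isometric

variable (R : Isometric G)

theorem mulVec_mul (g h : G) (v : Fin 3 → ℂ) : R.A (g * h) *ᵥ v = R.A g *ᵥ (R.A h *ᵥ v) := by
  rw [map_mul, Matrix.mulVec_mulVec]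

theorem mulVec_inv (g : G) (v : Fin 3 → ℂ) : R.A g⁻¹ *ᵥ (R.A g *ᵥ v) = v := by
  rw [← R.mulVec_mul, inv_mul_cancel, map_one, Matrix.one_mulVec]

theorem eq_of_cols {g h : G} {a b c : Fin 3 → ℂ} (hd : (cols a b c).det ≠ 0)
    (ha : R.A g *ᵥ a = R.A h *ᵥ a) (hb : R.A g *ᵥ b = R.A h *ᵥ b)
    (hc : R.A g *ᵥ c = R.A h *ᵥ c) : g = h := by
  apply R.inj
  have e : R.A g * cols a b c = R.A h * cols a b c := by rw [mul_cols, mul_cols, ha, hb, hc]
  calc R.A g = R.A g * (cols a b c * (cols a b c)⁻¹) := by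
        rw [Matrix.mul_nonsing_inv _ (Ne.isUnit hd), mul_one]
    _ = R.A h * (cols a b c * (cols a b c)⁻¹) := by rw [← mul_assoc, e, mul_assoc]
    _ = R.A h := by rw [Matrix.mul_nonsing_inv _ (Ne.isUnit hd), mul_one]

/-- Every element fixes a non-zero vector. -/
theorem exists_fixed (g : G) : ∃ v : Fin 3 → ℂ, v ≠ 0 ∧ R.A g *ᵥ v = v := by
  have e : (R.A g)ᵀ * R.M * (R.A g - 1) = -(((R.A g)ᵀ - 1) * R.M) := by
    rw [mul_sub, mul_one, R.invariant, sub_mul, one_mul, neg_sub]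
  have h := congrArg Matrix.det e
  have ht : ((R.A g)ᵀ - 1).det = (R.A g - 1).det := by
    rw [← Matrix.det_transpose (R.A g - 1), Matrix.transpose_sub, Matrix.transpose_one]
  rw [Matrix.det_mul, Matrix.det_mul, Matrix.det_transpose, R.det_one, Matrix.det_neg,
    Matrix.det_mul, ht, Fintype.card_fin] at h
  have h0 : (R.A g - 1).det = 0 := by
    have : (2 * R.M.det) * (R.A g - 1).det = 0 := by linear_combination h
    exact (mul_eq_zero.1 this).resolve_left (mul_ne_zero two_ne_zero R.nondeg)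
  obtain ⟨v, hv, hv0⟩ := Matrix.exists_mulVec_eq_zero_iff.2 h0
  exact ⟨v, hv, by rwa [Matrix.sub_mulVec, Matrix.one_mulVec, sub_eq_zero] at hv0⟩

/-- A non-trivial element of finite order fixes only one line. -/
theorem fixed_unique [Finite G] {g : G} (hg : g ≠ 1) {v y : Fin 3 → ℂ} (hv : v ≠ 0)
    (hgv : R.A g *ᵥ v = v) (hgy : R.A g *ᵥ y = y) : ∃ t : ℂ, y = t • v := by
  by_contra hcon
  push Not at hcon
  have hli : LinearIndependent ℂ ![v, y] :=
    (LinearIndependent.pair_iff' hv).2 fun a => (hcon a).symm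
  obtain ⟨i, hi⟩ := Function.ne_iff.1 (crossProduct_ne_zero_iff_linearIndependent.2 hli)
  set z : Fin 3 → ℂ := Pi.single i 1
  have hd : (cols v y z).det ≠ 0 := by
    rw [det_cols, single_one_dotProduct]
    exact hi
  set x : Fin 3 → ℂ := (cols v y z)⁻¹ *ᵥ (R.A g *ᵥ z) with hx
  have hz : R.A g *ᵥ z = x 0 • v + x 1 • y + x 2 • z := by
    rw [← cols_mulVec, hx, Matrix.mulVec_mulVec, Matrix.mul_nonsing_inv _ (Ne.isUnit hd),
      Matrix.one_mulVec]
  have hx2 : x 2 = 1 := by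
    have e := congrArg Matrix.det (mul_cols (R.A g) v y z)
    rw [Matrix.det_mul, R.det_one, one_mul, hgv, hgy, hz] at e
    have e2 : (cols v y (x 0 • v + x 1 • y + x 2 • z)).det = x 2 * (cols v y z).det := by
      simp [cols, Matrix.det_fin_three]
      ring
    rw [e2] at e
    exact (mul_eq_right₀ hd).1 e.symm
  rw [hx2, one_smul] at hz
  have hpow : ∀ k : ℕ, R.A (g ^ k) *ᵥ z = (k : ℂ) • (x 0 • v + x 1 • y) + z := by
    intro k
    induction k with
    | zero => simp
    | succ k ih =>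
      rw [pow_succ', R.mulVec_mul, ih, Matrix.mulVec_add, Matrix.mulVec_smul, Matrix.mulVec_add,
        Matrix.mulVec_smul, Matrix.mulVec_smul, hgv, hgy, hz, Nat.cast_succ, add_smul, one_smul]
      abel
  have h0 := hpow (Nat.card G)
  rw [pow_card_eq_one', map_one, Matrix.one_mulVec] at h0
  have h1 : x 0 • v + x 1 • y = 0 := by
    have : (Nat.card G : ℂ) • (x 0 • v + x 1 • y) = 0 := by
      have := h0.symm
      simpa using this
    exact (smul_eq_zero.1 this).resolve_left (Nat.cast_ne_zero.2 Nat.card_pos.ne')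
  refine hg (R.eq_of_cols hd ?_ ?_ ?_)
  · rw [hgv, map_one, Matrix.one_mulVec]
  · rw [hgy, map_one, Matrix.one_mulVec]
  · rw [hz, h1, zero_add, map_one, Matrix.one_mulVec]

theorem fix_dotProduct {g : G} {v : Fin 3 → ℂ} (hgv : R.A g *ᵥ v = v) (y : Fin 3 → ℂ) :
    (v ᵥ* R.M) ⬝ᵥ (R.A g *ᵥ y) = (v ᵥ* R.M) ⬝ᵥ y := by
  rw [Matrix.dotProduct_mulVec]
  congr 1
  conv_lhs => rw [← hgv, ← Matrix.vecMul_transpose, Matrix.vecMul_vecMul, Matrix.vecMul_vecMul,
    ← mul_assoc, R.invariant]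

/-- The fixed vector of a non-trivial element of finite order is not isotropic. -/
theorem fixed_anisotropic [Finite G] {g : G} (hg : g ≠ 1) {v : Fin 3 → ℂ} (hv : v ≠ 0)
    (hgv : R.A g *ᵥ v = v) : (v ᵥ* R.M) ⬝ᵥ v ≠ 0 := by
  intro h0
  have hrow : v ᵥ* R.M ≠ 0 := fun h => hv (Matrix.eq_zero_of_vecMul_eq_zero R.nondeg h)
  obtain ⟨i, hi⟩ := Function.ne_iff.1 hrow
  rw [Pi.zero_apply] at hi
  set y : Fin 3 → ℂ := Pi.single i 1
  set E : Fin 3 → ℂ := ∑ k ∈ Finset.range (Nat.card G), R.A (g ^ k) *ᵥ y with hE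
  have hfix : R.A g *ᵥ E = E := by
    have h1 : R.A g *ᵥ E = ∑ k ∈ Finset.range (Nat.card G), R.A (g ^ (k + 1)) *ᵥ y := by
      rw [hE, Matrix.mulVec_sum]
      exact Finset.sum_congr rfl fun k _ => by rw [pow_succ', R.mulVec_mul]
    have h2 := Finset.sum_range_succ' (fun k => R.A (g ^ k) *ᵥ y) (Nat.card G)
    rw [Finset.sum_range_succ, pow_card_eq_one', pow_zero, ← h1, ← hE] at h2
    exact (add_right_cancel h2).symm
  obtain ⟨t, ht⟩ := R.fixed_unique hg hv hgv hfix
  have key : (v ᵥ* R.M) ⬝ᵥ E = (Nat.card G : ℂ) * (v ᵥ* R.M) i := by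
    rw [hE, dotProduct_sum]
    have : ∀ k : ℕ, (v ᵥ* R.M) ⬝ᵥ (R.A (g ^ k) *ᵥ y) = (v ᵥ* R.M) i := by
      intro k
      induction k with
      | zero => rw [pow_zero, map_one, Matrix.one_mulVec, dotProduct_single_one]
      | succ k ih => rw [pow_succ', R.mulVec_mul, R.fix_dotProduct hgv, ih]
    simp only [this, Finset.sum_const, Finset.card_range, nsmul_eq_mul]
  rw [ht, dotProduct_smul, h0, smul_zero] at key
  exact mul_ne_zero (Nat.cast_ne_zero.2 Nat.card_pos.ne') hi key.symm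

/-- The infinitesimal rotation about `v`. -/
noncomputable def gen (v : Fin 3 → ℂ) : Matrix (Fin 3) (Fin 3) ℂ :=
  R.M⁻¹ * skew v

theorem gen_comm (g : G) (v : Fin 3 → ℂ) : R.A g * R.gen v = R.gen (R.A g *ᵥ v) * R.A g := by
  have h1 : R.A g * (R.M⁻¹ * (R.A g)ᵀ) = R.M⁻¹ := by
    have h2 : R.M⁻¹ * (R.A g)ᵀ * R.M * R.A g = 1 := by
      rw [mul_assoc, mul_assoc, ← mul_assoc (R.A g)ᵀ, R.invariant,
        Matrix.nonsing_inv_mul _ (Ne.isUnit R.nondeg)]
    have h3 := mul_eq_one_comm.1 h2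
    calc R.A g * (R.M⁻¹ * (R.A g)ᵀ)
        = R.A g * (R.M⁻¹ * (R.A g)ᵀ * R.M) * R.M⁻¹ := by
          rw [mul_assoc (R.A g) (R.M⁻¹ * (R.A g)ᵀ * R.M), mul_assoc (R.M⁻¹ * (R.A g)ᵀ) R.M,
            Matrix.mul_nonsing_inv _ (Ne.isUnit R.nondeg), mul_one]
      _ = R.M⁻¹ := by rw [h3, one_mul]
  have h4 := transpose_skew_mul (R.A g) v
  rw [R.det_one, one_smul] at h4
  rw [gen, gen, ← h4]
  calc R.A g * (R.M⁻¹ * ((R.A g)ᵀ * skew (R.A g *ᵥ v) * R.A g))
      = R.A g * (R.M⁻¹ * (R.A g)ᵀ) * skew (R.A g *ᵥ v) * R.A g := by simp only [mul_assoc]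
    _ = R.M⁻¹ * skew (R.A g *ᵥ v) * R.A g := by rw [h1]

theorem det_gen_sub (v : Fin 3 → ℂ) (μ : ℂ) :
    (R.gen v - μ • (1 : Matrix (Fin 3) (Fin 3) ℂ)).det =
      -μ * (μ ^ 2 + R.M⁻¹.det * ((v ᵥ* R.M) ⬝ᵥ v)) := by
  have hu : IsUnit R.M.det := Ne.isUnit R.nondeg
  have hN : R.M⁻¹ᵀ = R.M⁻¹ := by rw [Matrix.transpose_nonsing_inv, R.symm]
  have hadj : Matrix.adjugate R.M⁻¹ = R.M⁻¹.det • R.M := by
    calc Matrix.adjugate R.M⁻¹ = Matrix.adjugate R.M⁻¹ * (R.M⁻¹ * R.M) := by
          rw [Matrix.nonsing_inv_mul _ hu, mul_one]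
      _ = R.M⁻¹.det • R.M := by rw [← mul_assoc, Matrix.adjugate_mul, smul_mul, one_mul]
  have s : ∀ i j, R.M⁻¹ j i = R.M⁻¹ i j := fun i j => congrFun (congrFun hN i) j
  have hq : R.M⁻¹.det * ((v ᵥ* R.M) ⬝ᵥ v) = (v ᵥ* Matrix.adjugate R.M⁻¹) ⬝ᵥ v := by
    rw [hadj, Matrix.vecMul_smul, smul_dotProduct, smul_eq_mul]
  rw [hq, gen, Matrix.adjugate_fin_three]
  simp [skew, Matrix.det_fin_three, Matrix.mul_apply, Matrix.vecMul, dotProduct,
    Fin.sum_univ_three, s 0 1, s 0 2, s 1 2]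
  ring

/-- A basis adapted to the rotations about `v`. -/
theorem exists_frame {v : Fin 3 → ℂ} (hv : v ≠ 0) (haniso : (v ᵥ* R.M) ⬝ᵥ v ≠ 0) :
    ∃ w w' : Fin 3 → ℂ, (cols v w w').det ≠ 0 ∧
      (∀ g, R.A g *ᵥ v = v → ∃ l l' : ℂ, l * l' = 1 ∧ R.A g *ᵥ w = l • w ∧ R.A g *ᵥ w' = l' • w') ∧
      (∀ g, R.A g *ᵥ v = -v → ∃ b b' : ℂ, b * b' = 1 ∧
        R.A g *ᵥ w = b • w' ∧ R.A g *ᵥ w' = b' • w) := by
  have hq : R.M⁻¹.det * ((v ᵥ* R.M) ⬝ᵥ v) ≠ 0 := by
    refine mul_ne_zero ?_ haniso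
    rw [Matrix.det_nonsing_inv, Ring.inverse_eq_inv']
    exact inv_ne_zero R.nondeg
  obtain ⟨μ, hμ⟩ := IsAlgClosed.exists_pow_nat_eq (-(R.M⁻¹.det * ((v ᵥ* R.M) ⬝ᵥ v))) two_pos
  have hμ0 : μ ≠ 0 := fun h => hq (by
    rw [h, zero_pow two_ne_zero] at hμ
    exact neg_eq_zero.1 hμ.symm)
  have hev : ∀ ν : ℂ, ν ^ 2 = μ ^ 2 → ∃ w : Fin 3 → ℂ, w ≠ 0 ∧ R.gen v *ᵥ w = ν • w := by
    intro ν hν
    obtain ⟨w, hw, hw0⟩ := Matrix.exists_mulVec_eq_zero_iff.2
      (show (R.gen v - ν • (1 : Matrix (Fin 3) (Fin 3) ℂ)).det = 0 by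
        rw [R.det_gen_sub, hν, hμ, neg_add_cancel, mul_zero])
    refine ⟨w, hw, ?_⟩
    rwa [Matrix.sub_mulVec, Matrix.smul_mulVec, Matrix.one_mulVec, sub_eq_zero] at hw0
  obtain ⟨w, hw, hKw⟩ := hev μ rfl
  obtain ⟨w', hw', hKw'⟩ := hev (-μ) (neg_sq μ)
  have hKv : R.gen v *ᵥ v = 0 := by
    rw [gen, ← Matrix.mulVec_mulVec, skew_mulVec_self, Matrix.mulVec_zero]
  have hK : ∀ c : Fin 3 → ℂ, R.gen v *ᵥ (cols v w w' *ᵥ c) =
      (c 1 * μ) • w + (-(c 2 * μ)) • w' := by
    intro c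
    rw [cols_mulVec, Matrix.mulVec_add, Matrix.mulVec_add, Matrix.mulVec_smul, Matrix.mulVec_smul,
      Matrix.mulVec_smul, hKv, hKw, hKw', smul_zero, zero_add, smul_smul, smul_smul, mul_neg]
  have hd : (cols v w w').det ≠ 0 := by
    intro hd0
    obtain ⟨c, hc, hc0⟩ := Matrix.exists_mulVec_eq_zero_iff.2 hd0
    have h1 := hK c
    rw [hc0, Matrix.mulVec_zero] at h1
    have h2 := congrArg (fun y => R.gen v *ᵥ y) h1
    simp only [Matrix.mulVec_zero, Matrix.mulVec_add, Matrix.mulVec_smul, hKw, hKw', smul_smul]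
      at h2
    have h3 : (2 * (c 1 * μ * μ)) • w = 0 := by
      funext i
      have e1 := congrFun h1 i
      have e2 := congrFun h2 i
      simp only [Pi.zero_apply, Pi.add_apply, Pi.smul_apply, smul_eq_mul] at e1 e2 ⊢
      linear_combination -μ * e1 - e2
    have hc1 : c 1 = 0 := by
      rcases smul_eq_zero.1 h3 with h | h
      · simpa [hμ0] using h
      · exact absurd h hw
    have hc2 : c 2 = 0 := by
      rw [hc1, zero_mul, zero_smul, zero_add, eq_comm] at h1
      rcases smul_eq_zero.1 h1 with h | h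
      · simpa [hμ0] using h
      · exact absurd h hw'
    rw [cols_mulVec, hc1, hc2, zero_smul, zero_smul, add_zero, add_zero] at hc0
    refine hc (funext fun i => ?_)
    fin_cases i
    · exact (smul_eq_zero.1 hc0).resolve_right hv
    · exact hc1
    · exact hc2
  have heig : ∀ (y : Fin 3 → ℂ) (ν : ℂ), R.gen v *ᵥ y = ν • y →
      ∃ c : Fin 3 → ℂ, y = cols v w w' *ᵥ c ∧
        c 0 * ν = 0 ∧ c 1 * μ = c 1 * ν ∧ -(c 2 * μ) = c 2 * ν := by
    intro y ν hy
    have hc : cols v w w' *ᵥ ((cols v w w')⁻¹ *ᵥ y) = y := by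
      rw [Matrix.mulVec_mulVec, Matrix.mul_nonsing_inv _ (Ne.isUnit hd), Matrix.one_mulVec]
    set c := (cols v w w')⁻¹ *ᵥ y
    refine ⟨c, hc.symm, ?_⟩
    have h1 := hK c
    rw [hc, hy] at h1
    have h2 : cols v w w' *ᵥ ![c 0 * ν, c 1 * ν - c 1 * μ, c 2 * ν + c 2 * μ] = 0 := by
      have e : ν • y = ν • (c 0 • v + c 1 • w + c 2 • w') := by rw [← cols_mulVec, hc]
      rw [cols_mulVec]
      funext i
      have e1 := congrFun h1 i
      have e2 := congrFun e i
      simp only [Pi.zero_apply, Pi.add_apply, Pi.smul_apply, smul_eq_mul, Matrix.cons_val_zero,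
        Matrix.cons_val_one, Matrix.cons_val, Matrix.head_cons] at e1 e2 ⊢
      linear_combination e1 - e2
    have h3 : ![c 0 * ν, c 1 * ν - c 1 * μ, c 2 * ν + c 2 * μ] = 0 :=
      Matrix.eq_zero_of_mulVec_eq_zero hd h2
    have a0 := congrFun h3 0
    have a1 := congrFun h3 1
    have a2 := congrFun h3 2
    simp at a0 a1 a2
    refine ⟨?_, ?_, ?_⟩
    · rcases a0 with h | h <;> simp [h]
    · linear_combination -a1
    · linear_combination -a2
  have hplus : ∀ y, R.gen v *ᵥ y = μ • y → ∃ l : ℂ, y = l • w := by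
    intro y hy
    obtain ⟨c, hc, h0, -, h2⟩ := heig y μ hy
    have c0 : c 0 = 0 := (mul_eq_zero.1 h0).resolve_right hμ0
    have c2 : c 2 = 0 := by
      have : (2 * μ) * c 2 = 0 := by linear_combination -h2
      exact (mul_eq_zero.1 this).resolve_left (mul_ne_zero two_ne_zero hμ0)
    exact ⟨c 1, by rw [hc, cols_mulVec, c0, c2, zero_smul, zero_smul, zero_add, add_zero]⟩
  have hminus : ∀ y, R.gen v *ᵥ y = (-μ) • y → ∃ l : ℂ, y = l • w' := by
    intro y hy
    obtain ⟨c, hc, h0, h1, -⟩ := heig y (-μ) hy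
    have c0 : c 0 = 0 := (mul_eq_zero.1 h0).resolve_right (neg_ne_zero.2 hμ0)
    have c1 : c 1 = 0 := by
      have : (2 * μ) * c 1 = 0 := by linear_combination h1
      exact (mul_eq_zero.1 this).resolve_left (mul_ne_zero two_ne_zero hμ0)
    exact ⟨c 2, by rw [hc, cols_mulVec, c0, c1, zero_smul, zero_smul, zero_add, zero_add]⟩
  refine ⟨w, w', hd, fun g hg => ?_, fun g hg => ?_⟩
  · have hcomm : ∀ y, R.gen v *ᵥ (R.A g *ᵥ y) = R.A g *ᵥ (R.gen v *ᵥ y) := fun y => by
      rw [Matrix.mulVec_mulVec, Matrix.mulVec_mulVec, R.gen_comm g v, hg]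
    obtain ⟨l, hl⟩ := hplus (R.A g *ᵥ w) (by rw [hcomm, hKw, Matrix.mulVec_smul])
    obtain ⟨l', hl'⟩ := hminus (R.A g *ᵥ w') (by rw [hcomm, hKw', Matrix.mulVec_smul])
    refine ⟨l, l', ?_, hl, hl'⟩
    have e := congrArg Matrix.det (mul_cols (R.A g) v w w')
    rw [Matrix.det_mul, R.det_one, one_mul, hg, hl, hl'] at e
    have e1 : (cols v (l • w) (l' • w')).det = l * l' * (cols v w w').det := by
      conv_lhs => rw [← one_smul ℂ v]
      rw [det_cols_smul, one_mul]
    rw [e1] at e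
    exact (mul_eq_right₀ hd).1 e.symm
  · have hneg : R.gen (-v) = -R.gen v := by
      rw [gen, gen, ← Matrix.mul_neg]
      congr 1
      ext i j
      fin_cases i <;> fin_cases j <;> simp [skew]
    have hanti : ∀ y, R.gen v *ᵥ (R.A g *ᵥ y) = -(R.A g *ᵥ (R.gen v *ᵥ y)) := fun y => by
      have h1 := congrArg (fun X => X *ᵥ y) (R.gen_comm g v)
      simp only [hg, hneg, Matrix.neg_mul, Matrix.neg_mulVec, ← Matrix.mulVec_mulVec] at h1
      rw [h1, neg_neg]
    obtain ⟨b, hb⟩ := hminus (R.A g *ᵥ w) (by rw [hanti, hKw, Matrix.mulVec_smul, neg_smul])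
    obtain ⟨b', hb'⟩ := hplus (R.A g *ᵥ w')
      (by rw [hanti, hKw', Matrix.mulVec_smul, neg_smul, neg_neg])
    refine ⟨b, b', ?_, hb, hb'⟩
    have e := congrArg Matrix.det (mul_cols (R.A g) v w w')
    rw [Matrix.det_mul, R.det_one, one_mul, hg, hb, hb'] at e
    have e1 : (cols (-v) (b • w') (b' • w)).det = b * b' * (cols v w w').det := by
      rw [← neg_one_smul ℂ v, det_cols_smul, det_cols_swap]
      ring
    rw [e1] at e
    exact (mul_eq_right₀ hd).1 e.symm

/-- The pointwise stabiliser of the line of `v`. -/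
def stab (v : Fin 3 → ℂ) : Subgroup G where
  carrier := {g | R.A g *ᵥ v = v}
  one_mem' := by simp
  mul_mem' {a b} ha hb := by
    show R.A (a * b) *ᵥ v = v
    rw [R.mulVec_mul, hb, ha]
  inv_mem' {a} ha := by
    show R.A a⁻¹ *ᵥ v = v
    conv_lhs => rw [← ha]
    exact R.mulVec_inv a v

theorem mem_stab {v : Fin 3 → ℂ} {g : G} : g ∈ R.stab v ↔ R.A g *ᵥ v = v := Iff.rfl

theorem stab_smul {v : Fin 3 → ℂ} {t : ℂ} (ht : t ≠ 0) : R.stab (t • v) = R.stab v := by
  ext g
  rw [mem_stab, mem_stab, Matrix.mulVec_smul]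
  exact ⟨fun h => smul_right_injective _ ht h, fun h => by rw [h]⟩

include R in
theorem exists_partition [Finite G] {p : ℕ} [Fact p.Prime] (hp : ¬ p ∣ Nat.card G) :
    ∃ P : PSL2.Part.Partition G p, ∀ x, x ≠ 1 → ¬ IsPGroup p (P.comp x) := by
  classical
  choose vec hvec hfix using R.exists_fixed
  let comp : G → Subgroup G := fun x => R.stab (vec x)
  have hnp : ∀ x, x ≠ 1 → ¬ IsPGroup p (comp x) := by
    intro x hx hP
    obtain ⟨n, hn⟩ := IsPGroup.iff_card.1 hP
    rcases n with _ | n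
    · exact hx (Subgroup.mem_bot.1 (Subgroup.card_eq_one.1 (by rw [hn, pow_zero]) ▸ hfix x))
    · exact hp ((dvd_pow_self p (by omega)).trans (hn ▸ Subgroup.card_subgroup_dvd_card (comp x)))
  have hframe := fun x (hx : x ≠ 1) =>
    R.exists_frame (hvec x) (R.fixed_anisotropic hx (hvec x) (hfix x))
  -- an element of the normaliser outside the component reverses the axis
  have hrev : ∀ x k, x ≠ 1 → k ∈ Subgroup.normalizer (comp x : Set G) → k ∉ comp x →
      R.A k *ᵥ vec x = -vec x := by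
    intro x k hx hk hkn
    have h1 : k⁻¹ * x * k ∈ comp x := by
      have := (Subgroup.mem_normalizer_iff.1 (Subgroup.inv_mem _ hk) x).1 (hfix x)
      simpa using this
    have h2 : R.A x *ᵥ (R.A k *ᵥ vec x) = R.A k *ᵥ vec x := by
      rw [← R.mulVec_mul, show x * k = k * (k⁻¹ * x * k) by group, R.mulVec_mul, R.mem_stab.1 h1]
    obtain ⟨t, ht⟩ := R.fixed_unique hx (hvec x) (hfix x) h2
    have hq := R.fixed_anisotropic hx (hvec x) (hfix x)
    have h3 : ((R.A k *ᵥ vec x) ᵥ* R.M) ⬝ᵥ (R.A k *ᵥ vec x) = (vec x ᵥ* R.M) ⬝ᵥ vec x := by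
      rw [Matrix.dotProduct_mulVec, ← Matrix.vecMul_transpose, Matrix.vecMul_vecMul,
        Matrix.vecMul_vecMul, ← mul_assoc, R.invariant]
    rw [ht, Matrix.smul_vecMul, smul_dotProduct, dotProduct_smul, smul_smul, smul_eq_mul] at h3
    rcases mul_self_eq_one_iff.1 ((mul_eq_right₀ hq).1 h3) with h | h
    · exact absurd (by rw [mem_stab, ht, h, one_smul]) hkn
    · rw [ht, h, neg_one_smul]
  refine ⟨{
    comp := comp
    mem_self := fun x _ => hfix x
    eq_of_mem := ?_
    conj := ?_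
    centralizer_p := fun x y hx hP => absurd hP (hnp x hx)
    cyclic := ?_
    inverting := ?_
    two := ?_
    borel := fun x y hx _ hP => absurd hP (hnp x hx) }, hnp⟩
  · intro x y _ hy hy1
    obtain ⟨t, ht⟩ := R.fixed_unique hy1 (hvec y) (hfix y) hy
    have ht0 : t ≠ 0 := fun h => hvec x (by rw [ht, h, zero_smul])
    show R.stab (vec y) = R.stab (vec x)
    rw [ht, R.stab_smul ht0]
  · intro x k hx
    have hne : k * x * k⁻¹ ≠ 1 := PSL2.Part.Partition.conj_ne_one hx
    have h1 : R.A (k * x * k⁻¹) *ᵥ (R.A k *ᵥ vec x) = R.A k *ᵥ vec x := by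
      rw [← R.mulVec_mul, inv_mul_cancel_right, R.mulVec_mul, hfix]
    obtain ⟨t, ht⟩ := R.fixed_unique hne (hvec _) (hfix _) h1
    have ht0 : t ≠ 0 := fun h => hvec x (by
      rw [← R.mulVec_inv k (vec x), ht, h, zero_smul, Matrix.mulVec_zero])
    show R.stab (vec (k * x * k⁻¹)) = (R.stab (vec x)).map (MulAut.conj k).toMonoidHom
    rw [← R.stab_smul (v := vec (k * x * k⁻¹)) ht0, ← ht]
    ext y
    rw [PSL2.Part.Partition.mem_map_conj, mem_stab, mem_stab, R.mulVec_mul, R.mulVec_mul]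
    constructor
    · intro h; rw [h, R.mulVec_inv]
    · intro h
      have := congrArg (fun z => R.A k *ᵥ z) h
      simp only [← R.mulVec_mul, mul_inv_cancel_left] at this ⊢
      exact this
  · intro x hx _
    refine ⟨?_, fun hd => hp (hd.trans (Subgroup.card_subgroup_dvd_card _))⟩
    obtain ⟨w, w', hd, hst, -⟩ := hframe x hx
    choose l l' hll hl hl' using fun g : comp x => hst g g.2
    have hw : w ≠ 0 := fun h => hd (by rw [h]; simp [cols, Matrix.det_fin_three])
    have hw' : w' ≠ 0 := fun h => hd (by rw [h]; simp [cols, Matrix.det_fin_three])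
    let χ : comp x →* ℂ :=
      { toFun := l
        map_one' := smul_left_injective ℂ hw (by
          simp only [one_smul]; rw [← hl 1]; simp)
        map_mul' := fun a b => smul_left_injective ℂ hw (by
          simp only
          rw [← hl (a * b), Subgroup.coe_mul, R.mulVec_mul, hl b, Matrix.mulVec_smul, hl a,
            smul_smul, mul_comm]) }
    refine isCyclic_of_subgroup_isDomain χ ((injective_iff_map_eq_one χ).2 fun g hg => ?_)
    change l g = 1 at hg
    have hg' : l' g = 1 := by simpa [hg] using hll g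
    refine Subtype.ext (R.eq_of_cols hd ?_ ?_ ?_)
    · rw [R.mem_stab.1 g.2, Subgroup.coe_one, map_one, Matrix.one_mulVec]
    · rw [hl g, hg, one_smul, Subgroup.coe_one, map_one, Matrix.one_mulVec]
    · rw [hl' g, hg', one_smul, Subgroup.coe_one, map_one, Matrix.one_mulVec]
  · intro x k hx _ hk hkn
    have hkv := hrev x k hx hk hkn
    obtain ⟨w, w', hd, hst, hrf⟩ := hframe x hx
    obtain ⟨b, b', hbb, hb, hb'⟩ := hrf k hkv
    refine ⟨R.eq_of_cols hd ?_ ?_ ?_, fun y hy => ?_⟩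
    · rw [R.mulVec_mul, hkv, Matrix.mulVec_neg, hkv, neg_neg, map_one, Matrix.one_mulVec]
    · rw [R.mulVec_mul, hb, Matrix.mulVec_smul, hb', smul_smul, hbb, map_one, Matrix.one_mulVec,
        one_smul]
    · rw [R.mulVec_mul, hb', Matrix.mulVec_smul, hb, smul_smul, mul_comm, hbb, map_one,
        Matrix.one_mulVec, one_smul]
    · obtain ⟨l, l', hll, hl, hl'⟩ := hst y hy
      have e : y * (k * y) = k := R.eq_of_cols hd
        (by rw [R.mulVec_mul, R.mulVec_mul, R.mem_stab.1 hy, hkv, Matrix.mulVec_neg,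
          R.mem_stab.1 hy])
        (by rw [R.mulVec_mul, R.mulVec_mul, hl, Matrix.mulVec_smul, hb, Matrix.mulVec_smul,
          Matrix.mulVec_smul, hl', smul_smul, smul_smul]
            congr 1
            linear_combination b * hll)
        (by rw [R.mulVec_mul, R.mulVec_mul, hl', Matrix.mulVec_smul, hb', Matrix.mulVec_smul,
          Matrix.mulVec_smul, hl, smul_smul, smul_smul]
            congr 1
            linear_combination b' * hll)
      calc k * y * k⁻¹ = y⁻¹ * (y * (k * y)) * k⁻¹ := by group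
        _ = y⁻¹ := by rw [e, mul_assoc, mul_inv_cancel, mul_one]
  · intro x a b hx _ ha hb han hbn
    show R.A (a * b) *ᵥ vec x = vec x
    rw [R.mulVec_mul, hrev x b hx hb hbn, Matrix.mulVec_neg, hrev x a hx ha han, neg_neg]

/-- **A perfect group of rotations is the icosahedral group.** -/
theorem iso_alternatingFive {G : Type*} [Group G] [Finite G] [Nontrivial G] (R : Isometric G)
    (hperf : commutator G = ⊤) : Nonempty (G ≃* alternatingGroup (Fin 5)) := by
  obtain ⟨p, hpl, hp⟩ := Nat.exists_infinite_primes (Nat.card G + 1)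
  haveI := Fact.mk hp
  obtain ⟨P, hnp⟩ := R.exists_partition (p := p) fun hd => by
    have := Nat.le_of_dvd Nat.card_pos hd
    omega
  have hns : ¬ Group.IsSolvable G := by
    intro hs
    have := Group.IsSolvable.commutator_lt_top_of_nontrivial G
    rw [hperf] at this
    exact lt_irrefl _ this
  rcases P.classify with h | ⟨x, hx, -, htop⟩ | ⟨x, hx, -, hnorm, hcard⟩ | ⟨x, hx, hP, -⟩ |
    ⟨⟨e⟩⟩ | ⟨⟨e⟩⟩ | h | ⟨x, -, hx, hP, -⟩
  · exact absurd h (not_subsingleton G)
  · refine absurd ?_ hns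
    haveI : IsCyclic (P.comp x) := (P.cyclic x hx (hnp x hx)).1
    haveI : IsCyclic G := isCyclic_of_surjective (P.comp x).subtype fun g =>
      ⟨⟨g, by rw [htop]; trivial⟩, rfl⟩
    exact Group.isSolvable_of_comm fun a b => IsCyclic.commGroup.mul_comm a b
  · refine absurd ?_ hns
    haveI : IsCyclic (P.comp x) := (P.cyclic x hx (hnp x hx)).1
    haveI : (P.comp x).Normal := Subgroup.normalizer_eq_top_iff.1 hnorm
    have hi : (P.comp x).index = 2 := by
      have h2 := (P.comp x).index_mul_card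
      rw [hcard] at h2
      exact Nat.eq_of_mul_eq_mul_right Nat.card_pos h2
    haveI : Fact (Nat.Prime 2) := ⟨Nat.prime_two⟩
    haveI : IsCyclic (G ⧸ P.comp x) := isCyclic_of_prime_card (p := 2) hi
    haveI : Group.IsSolvable (G ⧸ P.comp x) :=
      Group.isSolvable_of_comm fun a b => IsCyclic.commGroup.mul_comm a b
    haveI : Group.IsSolvable (P.comp x) :=
      Group.isSolvable_of_comm fun a b => IsCyclic.commGroup.mul_comm a b
    exact Group.isSolvable_of_ker_le_range (P.comp x).subtype (QuotientGroup.mk' (P.comp x))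
      (by simp)
  · exact absurd hP (hnp x hx)
  · refine absurd ?_ hns
    haveI : Group.IsSolvable (alternatingGroup (Fin 4)) :=
      CharInt.isSolvable_of_card_eq (p := 2) (q := 3) (a := 2) (b := 1) Nat.prime_two Nat.prime_three
        (by rw [nat_card_alternatingGroup, Nat.card_fin]; decide)
    exact Group.isSolvable_of_isSolvable_injective (f := e.toMonoidHom) e.injective
  · refine absurd ?_ hns
    haveI : Group.IsSolvable (Equiv.Perm (Fin 4)) :=
      CharInt.isSolvable_of_card_eq (p := 2) (q := 3) (a := 3) (b := 1) Nat.prime_two Nat.prime_three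
        (by rw [Nat.card_perm, Nat.card_fin]; decide)
    exact Group.isSolvable_of_isSolvable_injective (f := e.toMonoidHom) e.injective
  · exact h
  · exact absurd hP (hnp x hx)

end Isometric

end Cfsg.Agent.ColumnFour.Rotation
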