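import Cfsg.Agent.Lib.ColumnFour.Basic
import Cfsg.Agent.Lib.ColumnFour.Rotation
import Cfsg.Agent.Lib.Char.InvariantForm
import Cfsg.Agent.Lib.Char.LargePrimes
import Mathlib.GroupTheory.SpecificGroups.Alternating

/-!
# The quotient by the kernel of a real character of degree three

Such a kernel `K` has icosahedral quotient and is the same for all these characters; the
characters not vanishing at `u` are then two of degree three and one of degree five, all trivial
on `K`, so `u K` is a single conjugacy class and the centraliser of `u` has order four.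
-/

set_option autoImplicit false
set_option linter.unusedSectionVars false
set_option linter.style.haveILetI false

namespace Cfsg.Agent.ColumnFour

open scoped ComplexConjugate
open Cfsg Cfsg.Agent.Char Matrix

universe w

variable {G : Type w} [Group G] [Fintype G] {u : G} (hyp : Hyp u)
include hyp

/-- A real character of degree three gives an icosahedral quotient. -/
theorem exists_kernel {α : IrrCharacter G} (hA : InA u α) (h3 : degree α = 3)
    (hr : conjIrr α = α) :
    ∃ K : Subgroup G, ∃ _ : K.Normal, Nonempty (G ⧸ K ≃* alternatingGroup (Fin 5)) ∧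
      ∀ g, g ∈ K ↔ α.1 g = α.1 1 := by
  classical
  obtain ⟨n, ρ, hirr, hρ⟩ := α.2
  have hn : n = 3 := by
    have h1 := apply_one_eq_degree α
    rw [← hρ, h3] at h1
    simp at h1
    exact_mod_cast h1
  subst hn
  let A : G →* Matrix (Fin 3) (Fin 3) ℂ :=
    { toFun := fun g => LinearMap.toMatrix' (ρ g)
      map_one' := by rw [map_one]; exact LinearMap.toMatrix'_id
      map_mul' := fun a b => by rw [map_mul]; exact LinearMap.toMatrix'_mul _ _ }
  have hdet : ∀ g, (A g).det = 1 := fun g => by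
    have h := hom_eq_one hyp ((Matrix.detMonoidHom (n := Fin 3) (R := ℂ)).comp A)
    exact congrArg (fun f : G →* ℂ => f g) h
  have hreal : ∀ g, (ρ.character g).im = 0 := by
    rw [hρ]; exact (conjIrr_eq_self_iff α).1 hr
  obtain ⟨⟨M, hM0, hM⟩, hsym⟩ := invariant_forms ρ (avg_sq_eq_one ρ hirr hreal)
  have hM' : ∀ g, (A g)ᵀ * M * A g = M := hM
  have hMd : M.det ≠ 0 := by
    intro h0
    obtain ⟨v, hv, hv0⟩ := Matrix.exists_mulVec_eq_zero_iff.2 h0
    haveI := hirr
    let S : Subrepresentation ρ :=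
      { toSubmodule := LinearMap.ker (Matrix.toLin' M)
        apply_mem_toSubmodule := fun g x hx => by
          rw [LinearMap.mem_ker, Matrix.toLin'_apply] at hx ⊢
          have e : ρ g x = A g *ᵥ x := (LinearMap.toMatrix'_mulVec (ρ g) x).symm
          have hu : ((A g)ᵀ).det ≠ 0 := by rw [Matrix.det_transpose, hdet]; exact one_ne_zero
          refine Matrix.eq_zero_of_mulVec_eq_zero hu ?_
          rw [e, Matrix.mulVec_mulVec, Matrix.mulVec_mulVec, hM', hx] }
    rcases eq_bot_or_eq_top S with h | h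
    · have hmem : v ∈ S.toSubmodule := LinearMap.mem_ker.2 (by rw [Matrix.toLin'_apply, hv0])
      rw [h] at hmem
      exact hv hmem
    · refine hM0 (Matrix.toLin'.injective ?_)
      rw [map_zero, ← LinearMap.ker_eq_top]
      exact congrArg Subrepresentation.toSubmodule h
  have hMs : Mᵀ = M := by
    rcases fsIndicator_of_real α ((conjIrr_eq_self_iff α).1 hr) with h | h
    · have := hsym M hM
      rwa [hρ, h, one_smul] at this
    · exfalso
      have := congrArg Matrix.det (hsym M hM)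
      rw [hρ, h, Matrix.det_transpose, neg_one_smul, Matrix.det_neg, Fintype.card_fin] at this
      exact hMd (by linear_combination this / 2)
  have hker : ∀ g, g ∈ A.ker ↔ α.1 g = α.1 1 := by
    intro g
    rw [← hρ, ρ.char_one, CharInt.character_eq_finrank_iff, MonoidHom.mem_ker]
    constructor
    · intro h
      refine LinearMap.toMatrix'.injective ?_
      exact h.trans LinearMap.toMatrix'_id.symm
    · intro h
      show LinearMap.toMatrix' (ρ g) = 1
      rw [h]
      exact LinearMap.toMatrix'_id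
  refine ⟨A.ker, inferInstance, ?_, hker⟩
  have hu : u ∉ A.ker := fun h => by
    obtain ⟨h1, h2, -⟩ := deg3_values hyp hA h3
    rw [hker, h1, h2] at h
    norm_num at h
  haveI : Nontrivial (G ⧸ A.ker) :=
    ⟨⟨(u : G ⧸ A.ker), 1, fun h => hu ((QuotientGroup.eq_one_iff u).1 h)⟩⟩
  let B : G ⧸ A.ker →* Matrix (Fin 3) (Fin 3) ℂ := QuotientGroup.lift A.ker A le_rfl
  have hBmk : ∀ g : G, B (g : G ⧸ A.ker) = A g := fun g => rfl
  have hBinj : Function.Injective B := by
    refine (injective_iff_map_eq_one B).2 fun q hq => ?_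
    obtain ⟨g, rfl⟩ := QuotientGroup.mk_surjective q
    rw [hBmk] at hq
    exact (QuotientGroup.eq_one_iff g).2 hq
  have hBdet : ∀ q, (B q).det = 1 := fun q => by
    obtain ⟨g, rfl⟩ := QuotientGroup.mk_surjective q
    rw [hBmk]
    exact hdet g
  have hBinv : ∀ q, (B q)ᵀ * M * B q = M := fun q => by
    obtain ⟨g, rfl⟩ := QuotientGroup.mk_surjective q
    rw [hBmk]
    exact hM' g
  let R : Rotation.Isometric (G ⧸ A.ker) := ⟨B, hBinj, hBdet, M, hMs, hMd, hBinv⟩
  refine R.iso_alternatingFive ?_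
  have hsurj := QuotientGroup.mk'_surjective A.ker
  have h := congrArg (Subgroup.map (QuotientGroup.mk' A.ker)) (commutator_eq_top hyp)
  rwa [_root_.commutator_def, Subgroup.map_commutator, Subgroup.map_top_of_surjective _ hsurj,
    ← _root_.commutator_def] at h

theorem five_trivOn {α Ψ : IrrCharacter G} (h3 : degree α = 3) (h5 : degree Ψ = 5)
    (hsq : ∀ g, α.1 g * α.1 g = 1 + α.1 g + Ψ.1 g) {K : Subgroup G} (hK : TrivOn K α.1) :
    TrivOn K Ψ.1 := by
  intro k hk
  have := hsq k
  rw [hK k hk, apply_one_eq_degree, h3] at this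
  rw [apply_one_eq_degree, h5]
  push_cast at this ⊢
  linear_combination -this

omit hyp [Fintype G] in
theorem isSimple_of_iso {K : Subgroup G} [K.Normal]
    (e : Nonempty (G ⧸ K ≃* alternatingGroup (Fin 5))) : IsSimpleGroup (G ⧸ K) := by
  obtain ⟨e⟩ := e
  haveI : Nontrivial (G ⧸ K) := e.toEquiv.nontrivial
  haveI := alternatingGroup.isSimpleGroup_five
  exact IsSimpleGroup.isSimpleGroup_of_surjective e.symm.toMonoidHom e.symm.surjective

omit hyp [Fintype G] in
theorem index_eq_sixty {K : Subgroup G} [K.Normal]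
    (e : Nonempty (G ⧸ K ≃* alternatingGroup (Fin 5))) : K.index = 60 := by
  obtain ⟨e⟩ := e
  rw [Subgroup.index, Nat.card_congr e.toEquiv, nat_card_alternatingGroup, Nat.card_fin]
  rfl

/-- All real characters of degree three have the same kernel. -/
theorem kernel_unique {α φ : IrrCharacter G} (hA : InA u α) (h3 : degree α = 3)
    (hr : conjIrr α = α) (hB : InA u φ) (hb3 : degree φ = 3) (hrb : conjIrr φ = φ)
    {K L : Subgroup G} [K.Normal] [L.Normal] (eK : Nonempty (G ⧸ K ≃* alternatingGroup (Fin 5)))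
    (eL : Nonempty (G ⧸ L ≃* alternatingGroup (Fin 5)))
    (hK : ∀ g, g ∈ K ↔ α.1 g = α.1 1) (hL : ∀ g, g ∈ L ↔ φ.1 g = φ.1 1) : K = L := by
  classical
  by_contra hne
  obtain ⟨Ψ, -, hΨd, hΨ⟩ := exists_five hyp hA h3 hr
  obtain ⟨Φ, hΦA, hΦd, hΦ⟩ := exists_five hyp hB hb3 hrb
  have hKLtop : K ⊔ L = ⊤ := by
    haveI := isSimple_of_iso eK
    rcases IsSimpleGroup.eq_bot_or_eq_top_of_normal _
      ((‹L.Normal›).map (QuotientGroup.mk' K) (QuotientGroup.mk'_surjective K)) with h | h
    · have hle : L ≤ K := by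
        have := (Subgroup.map_eq_bot_iff L).1 h
        rwa [QuotientGroup.ker_mk'] at this
      refine absurd (Subgroup.eq_of_le_of_card_ge hle ?_).symm hne
      have e1 := K.index_mul_card
      have e2 := L.index_mul_card
      rw [index_eq_sixty eK] at e1
      rw [index_eq_sixty eL] at e2
      omega
    · have := congrArg (Subgroup.comap (QuotientGroup.mk' K)) h
      rwa [Subgroup.comap_top, Subgroup.comap_map_eq, QuotientGroup.ker_mk', sup_comm] at this
  have hαφ : α ≠ φ := fun h => hne (by ext g; rw [hK, hL, h])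
  have hΨΦ : Ψ ≠ Φ := by
    intro h
    have hu : u ∈ ((K ⊔ L : Subgroup G) : Set G) := by rw [hKLtop]; trivial
    rw [Subgroup.normal_mul] at hu
    obtain ⟨k, hk, l, hl, hkl⟩ := Set.mem_mul.1 hu
    have h1 : Φ.1 u = Φ.1 1 := by
      rw [← hkl, apply_mul_of_trivOn (five_trivOn hyp hb3 hΦd hΦ fun x hx => (hL x).1 hx) k hl, ← h]
      exact five_trivOn hyp h3 hΨd hΨ (fun x hx => (hK x).1 hx) k hk
    rw [apply_u hyp hΦA, apply_one_eq_degree, hΦd] at h1
    norm_num at h1
  have hcα : ∀ g, conj (α.1 g) = α.1 g := fun g => congrFun (congrArg Subtype.val hr) g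
  have hcφ : ∀ g, conj (φ.1 g) = φ.1 g := fun g => congrFun (congrArg Subtype.val hrb) g
  have hnorm : classInner (fun g => α.1 g * φ.1 g) (fun g => α.1 g * φ.1 g) = 1 := by
    rw [classInner_pointwise α.1 φ.1 α.1 φ.1 ((trivialChar G).1 + α.1 + Ψ.1)
      ((trivialChar G).1 + φ.1 + Φ.1) (fun g => by
        simp only [Pi.add_apply, trivialChar_apply, ← hΨ g, ← hΦ g, map_mul, hcα g, hcφ g]
        ring)]
    simp only [classInner_add_left, classInner_add_right, classInner_irr_self (trivialChar G).2]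
    rw [classInner_eq_zero_of_ne hαφ, classInner_eq_zero_of_ne hΨΦ,
      classInner_irr_ne (ψ := φ) (by rw [degree_trivialChar]; omega),
      classInner_irr_ne (ψ := Φ) (by rw [degree_trivialChar]; omega),
      classInner_irr_ne (χ := α) (by rw [degree_trivialChar]; omega),
      classInner_irr_ne (χ := α) (ψ := Φ) (by omega),
      classInner_irr_ne (χ := Ψ) (by rw [degree_trivialChar]; omega),
      classInner_irr_ne (χ := Ψ) (ψ := φ) (by omega)]
    norm_num
  let θ : IrrCharacter G :=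
    ⟨_, isIrrCharacter_iff.2 ⟨IsCharacter.mul (irr_isCharacter α) (irr_isCharacter φ), hnorm⟩⟩
  have hu1 : θ.1 u = 1 := by
    show α.1 u * φ.1 u = 1
    rw [(deg3_values hyp hA h3).1, (deg3_values hyp hB hb3).1]
    norm_num
  have h9 : θ.1 1 = 9 := by
    show α.1 1 * φ.1 1 = 9
    rw [(deg3_values hyp hA h3).2.1, (deg3_values hyp hB hb3).2.1]
    norm_num
  have hθ : θ ≠ trivialChar G := fun h => by
    rw [h, trivialChar_apply] at h9
    norm_num at h9
  rcases hyp θ hθ with h | h
  · rw [hu1, h9] at h; norm_num at h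
  · rw [hu1] at h; norm_num at h

open scoped Classical in
/-- At most two characters of degree three share the kernel. -/
theorem card_real_le {K : Subgroup G} [K.Normal]
    (eK : Nonempty (G ⧸ K ≃* alternatingGroup (Fin 5))) {Ψ : IrrCharacter G} (hΨ : TrivOn K Ψ.1)
    (h5 : degree Ψ = 5) (S : Finset (IrrCharacter G))
    (hS : ∀ χ ∈ S, degree χ = 3 ∧ TrivOn K χ.1) : S.card ≤ 2 := by
  have hsum := sum_trivOn_degree_sq K
  rw [index_eq_sixty eK] at hsum
  simp only [charDegree_eq_degree] at hsum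
  set T := Finset.univ.filter (fun χ : IrrCharacter G => TrivOn K χ.1)
  have hΨ1 : Ψ ≠ trivialChar G := fun h => by rw [h, degree_trivialChar] at h5; omega
  have hΨS : Ψ ∉ S := fun h => by have := (hS Ψ h).1; omega
  have h1S : trivialChar G ∉ insert Ψ S := by
    rw [Finset.mem_insert, not_or]
    exact ⟨hΨ1.symm, fun h => by have := (hS _ h).1; rw [degree_trivialChar] at this; omega⟩
  set S' := insert (trivialChar G) (insert Ψ S)
  have hsub : S' ⊆ T := by
    intro χ hχ
    refine Finset.mem_filter.2 ⟨Finset.mem_univ _, ?_⟩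
    rcases Finset.mem_insert.1 hχ with rfl | hχ
    · exact trivOn_trivialChar K
    rcases Finset.mem_insert.1 hχ with rfl | hχ
    · exact hΨ
    · exact (hS χ hχ).2
  have hS' : ∑ χ ∈ S', degree χ ^ 2 = 26 + 9 * S.card := by
    rw [Finset.sum_insert h1S, Finset.sum_insert hΨS, degree_trivialChar, h5,
      Finset.sum_congr rfl (fun χ hχ => by rw [(hS χ hχ).1]; norm_num : ∀ χ ∈ S, degree χ ^ 2 = 9),
      Finset.sum_const, smul_eq_mul]
    omega
  rw [← Finset.sum_sdiff hsub, hS'] at hsum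
  by_contra hc
  have h3 : S.card = 3 := by omega
  rw [h3] at hsum
  have htwo : ∀ χ ∈ T \ S', degree χ ^ 2 = 4 := by
    intro χ hχ
    have hne : χ ≠ trivialChar G := fun h =>
      (Finset.mem_sdiff.1 hχ).2 (h ▸ Finset.mem_insert_self _ _)
    have h2 := two_le_degree hyp hne
    have hle : degree χ ^ 2 ≤ ∑ x ∈ T \ S', degree x ^ 2 :=
      Finset.single_le_sum (f := fun x => degree x ^ 2) (fun x _ => Nat.zero_le _) hχ
    have : degree χ = 2 := by
      by_contra h
      have : 3 ^ 2 ≤ degree χ ^ 2 := Nat.pow_le_pow_left (by omega) 2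
      omega
    rw [this]; rfl
  rw [Finset.sum_congr rfl htwo, Finset.sum_const, smul_eq_mul] at hsum
  omega

/-- The configuration: an icosahedral quotient in which `u` is an involution, with `u K` one
class and centraliser of order four. -/
theorem exists_quotient (hu : u ≠ 1) :
    ∃ K : Subgroup G, ∃ _ : K.Normal, Nonempty (G ⧸ K ≃* alternatingGroup (Fin 5)) ∧
      u ∉ K ∧ u ^ 2 ∈ K ∧ (∀ k ∈ K, IsConj (u * k) u) ∧
      Nat.card (Subgroup.centralizer ({u} : Set G)) = 4 := by
  classical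
  set A := Finset.univ.filter (fun χ : IrrCharacter G => InA u χ) with hAdef
  have hmemA : ∀ χ, χ ∈ A ↔ InA u χ := fun χ => by simp [hAdef]
  set Three := A.filter (fun χ => degree χ = 3) with hThree
  set Big := A.filter (fun χ => ¬degree χ = 3) with hBigdef
  set NR := Three.filter (fun χ => ¬conjIrr χ = χ) with hNR
  set RS := Three.filter (fun χ => conjIrr χ = χ) with hRS
  set F : IrrCharacter G → ℤ := fun χ => (degree χ : ℤ) * ((degree χ : ℤ) - 4) with hF
  have htot : ∑ χ ∈ A, F χ = -1 := by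
    have h := sum_irr_degree_mul u
    rw [if_neg hu, ← Finset.add_sum_erase _ _ (Finset.mem_univ (trivialChar G))] at h
    have he : ∑ χ ∈ Finset.univ.erase (trivialChar G), χ.1 1 * χ.1 u = ∑ χ ∈ A, (F χ : ℂ) := by
      symm
      rw [← Finset.sum_subset (show A ⊆ Finset.univ.erase (trivialChar G) from fun χ hχ =>
        Finset.mem_erase.2 ⟨((hmemA χ).1 hχ).1, Finset.mem_univ χ⟩)]
      · refine Finset.sum_congr rfl fun χ hχ => ?_
        rw [apply_u hyp ((hmemA χ).1 hχ), apply_one_eq_degree]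
        simp [hF]
      · intro χ hχ hn
        have : χ.1 u = 0 := by
          by_contra h0
          exact hn ((hmemA χ).2 ⟨(Finset.mem_erase.1 hχ).1, h0⟩)
        rw [this, mul_zero]
    rw [he, trivialChar_apply, trivialChar_apply, ← Int.cast_sum] at h
    have h2 : ((∑ χ ∈ A, F χ : ℤ) : ℂ) = ((-1 : ℤ) : ℂ) := by push_cast at h ⊢; linear_combination h
    exact_mod_cast h2
  have hsplit : ∑ χ ∈ Big, F χ = 3 * ((RS.card : ℤ) + NR.card) - 1 := by
    have h := Finset.sum_filter_add_sum_filter_not A (fun χ => degree χ = 3) F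
    have hc : (RS.card : ℤ) + NR.card = Three.card := by
      exact_mod_cast Finset.card_filter_add_card_filter_not (s := Three) (fun χ => conjIrr χ = χ)
    have h3 : ∑ χ ∈ Three, F χ = (Three.card : ℤ) * (-3) := by
      rw [Finset.sum_congr rfl (fun χ hχ => by
        simp only [hF, (Finset.mem_filter.1 hχ).2]; norm_num : ∀ χ ∈ Three, F χ = -3),
        Finset.sum_const, nsmul_eq_mul]
    rw [← hThree, ← hBigdef, h3, htot] at h
    linarith
  have hNR' : ∀ χ ∈ NR, InA u χ ∧ degree χ = 3 ∧ conjIrr χ ≠ χ := fun χ hχ => by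
    obtain ⟨h, h'⟩ := Finset.mem_filter.1 hχ
    obtain ⟨h1, h2⟩ := Finset.mem_filter.1 h
    exact ⟨(hmemA χ).1 h1, h2, h'⟩
  have hRS' : ∀ χ ∈ RS, InA u χ ∧ degree χ = 3 ∧ conjIrr χ = χ := fun χ hχ => by
    obtain ⟨h, h'⟩ := Finset.mem_filter.1 hχ
    obtain ⟨h1, h2⟩ := Finset.mem_filter.1 h
    exact ⟨(hmemA χ).1 h1, h2, h'⟩
  have hBig : ∀ χ ∈ Big, 5 ≤ F χ := fun χ hχ => by
    obtain ⟨h1, h2⟩ := Finset.mem_filter.1 hχ
    have h5 : (5 : ℤ) ≤ degree χ := by
      exact_mod_cast (degree_cases hyp ((hmemA χ).1 h1)).resolve_left h2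
    simp only [hF]
    nlinarith
  choose six hsixA hsixd hsix using fun χ : NR =>
    exists_six hyp (hNR' χ χ.2).1 (hNR' χ χ.2).2.1 (hNR' χ χ.2).2.2
  have hinj : Function.Injective six := fun a b hab => Subtype.ext <|
    six_injective hyp (hNR' a a.2).1 (hNR' a a.2).2.1 (hNR' a a.2).2.2 (hNR' b b.2).1
      (hNR' b b.2).2.1 (hNR' b b.2).2.2 fun g => by rw [← hsix a g, ← hsix b g, hab]
  set Six := NR.attach.image six with hSix
  have hSixBig : Six ⊆ Big := fun χ hχ => by
    obtain ⟨a, -, rfl⟩ := Finset.mem_image.1 hχ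
    exact Finset.mem_filter.2 ⟨(hmemA _).2 (hsixA a), by rw [hsixd a]; norm_num⟩
  have hSixsum : ∑ χ ∈ Six, F χ = 12 * (NR.card : ℤ) := by
    rw [hSix, Finset.sum_image (fun a _ b _ h => hinj h),
      Finset.sum_congr rfl (fun a _ => by simp only [hF, hsixd a]; norm_num :
        ∀ a ∈ NR.attach, F (six a) = 12), Finset.sum_const, Finset.card_attach, nsmul_eq_mul]
    ring
  have hge : 12 * (NR.card : ℤ) ≤ ∑ χ ∈ Big, F χ :=
    hSixsum ▸ Finset.sum_le_sum_of_subset_of_nonneg hSixBig fun χ h _ => by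
      have := hBig χ h; omega
  obtain ⟨α, hα⟩ : RS.Nonempty := by
    rw [Finset.nonempty_iff_ne_empty]
    intro h0
    rw [h0, Finset.card_empty] at hsplit
    have h2 : 0 ≤ ∑ χ ∈ Big, F χ := Finset.sum_nonneg fun χ h => by have := hBig χ h; omega
    omega
  obtain ⟨hαA, hα3, hαr⟩ := hRS' α hα
  obtain ⟨K, hKn, eK, hK⟩ := exists_kernel hyp hαA hα3 hαr
  obtain ⟨Ψ, hΨA, hΨd, hΨ⟩ := exists_five hyp hαA hα3 hαr
  have hΨK : TrivOn K Ψ.1 := five_trivOn hyp hα3 hΨd hΨ fun x hx => (hK x).1 hx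
  have hRSK : ∀ φ ∈ RS, TrivOn K φ.1 := by
    intro φ hφ
    obtain ⟨hφA, hφ3, hφr⟩ := hRS' φ hφ
    obtain ⟨L, hLn, eL, hL⟩ := exists_kernel hyp hφA hφ3 hφr
    have hKL : K = L := kernel_unique hyp hαA hα3 hαr hφA hφ3 hφr eK eL hK hL
    intro k hk
    exact (hL k).1 (hKL ▸ hk)
  have hr2 : RS.card ≤ 2 :=
    card_real_le hyp eK hΨK hΨd RS fun φ hφ => ⟨(hRS' φ hφ).2.1, hRSK φ hφ⟩
  have hr1 : 1 ≤ RS.card := Finset.card_pos.2 ⟨α, hα⟩
  have hΨBig : Ψ ∈ Big := Finset.mem_filter.2 ⟨(hmemA _).2 hΨA, by rw [hΨd]; norm_num⟩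
  have hΨSix : Ψ ∉ Six := fun h => by
    obtain ⟨a, -, ha⟩ := Finset.mem_image.1 h
    have := hsixd a
    rw [ha, hΨd] at this
    omega
  have hFΨ : F Ψ = 5 := by simp only [hF, hΨd]; norm_num
  have hge' : 5 + 12 * (NR.card : ℤ) ≤ ∑ χ ∈ Big, F χ := by
    have h : ∑ χ ∈ insert Ψ Six, F χ ≤ ∑ χ ∈ Big, F χ :=
      Finset.sum_le_sum_of_subset_of_nonneg (Finset.insert_subset hΨBig hSixBig) fun χ h _ => by
        have := hBig χ h; omega
    rwa [Finset.sum_insert hΨSix, hFΨ, hSixsum] at h
  have hn0 : NR.card = 0 := by omega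
  have hrtwo : RS.card = 2 := by omega
  have hBigeq : Big = {Ψ} := by
    refine Finset.eq_singleton_iff_unique_mem.2 ⟨hΨBig, fun χ hχ => ?_⟩
    by_contra hne
    have h : ∑ x ∈ ({χ, Ψ} : Finset _), F x ≤ ∑ x ∈ Big, F x :=
      Finset.sum_le_sum_of_subset_of_nonneg
        (Finset.insert_subset hχ (Finset.singleton_subset_iff.2 hΨBig)) fun x h _ => by
        have := hBig x h; omega
    rw [Finset.sum_pair hne, hFΨ] at h
    have := hBig χ hχ
    omega
  have hNR0 : NR = ∅ := Finset.card_eq_zero.1 hn0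
  have hTR : Three = RS := by
    refine (Finset.filter_eq_self.2 fun χ hχ => ?_).symm
    by_contra h
    have : χ ∈ NR := Finset.mem_filter.2 ⟨hχ, h⟩
    rw [hNR0] at this
    exact absurd this (Finset.notMem_empty χ)
  have hAtriv : ∀ χ, InA u χ → TrivOn K χ.1 := fun χ hχ => by
    by_cases h3 : degree χ = 3
    · exact hRSK χ (hTR ▸ Finset.mem_filter.2 ⟨(hmemA χ).2 hχ, h3⟩)
    · have : χ ∈ Big := Finset.mem_filter.2 ⟨(hmemA χ).2 hχ, h3⟩
      rw [hBigeq, Finset.mem_singleton] at this
      exact this ▸ hΨK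
  have hAsq : ∀ χ ∈ A, χ.1 u * conj (χ.1 u) = 1 := fun χ hχ => by
    rw [apply_u hyp ((hmemA χ).1 hχ)]
    by_cases h3 : degree χ = 3
    · rw [h3]; norm_num
    · have : χ ∈ Big := Finset.mem_filter.2 ⟨hχ, h3⟩
      rw [hBigeq, Finset.mem_singleton] at this
      rw [this, hΨd]
      norm_num
  have hAcard : A.card = 3 := by
    have h := Finset.card_filter_add_card_filter_not (s := A) (fun χ => degree χ = 3)
    rw [← hThree, ← hBigdef, hBigeq, hTR, Finset.card_singleton, hrtwo] at h
    omega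
  have hsumu : ∑ χ : IrrCharacter G, χ.1 u * conj (χ.1 u) = 4 := by
    rw [← Finset.add_sum_erase _ _ (Finset.mem_univ (trivialChar G)), trivialChar_apply, map_one,
      one_mul, ← Finset.sum_subset (show A ⊆ Finset.univ.erase (trivialChar G) from fun χ hχ =>
        Finset.mem_erase.2 ⟨((hmemA χ).1 hχ).1, Finset.mem_univ χ⟩) (fun χ hχ hn => by
          have : χ.1 u = 0 := by
            by_contra h0
            exact hn ((hmemA χ).2 ⟨(Finset.mem_erase.1 hχ).1, h0⟩)
          rw [this, zero_mul]),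
      Finset.sum_congr rfl hAsq, Finset.sum_const, hAcard]
    norm_num
  obtain ⟨hu1, h31, hu2⟩ := deg3_values hyp hαA hα3
  refine ⟨K, hKn, eK, fun h => ?_, (hK _).2 (hu2.trans h31.symm), fun k hk => ?_, ?_⟩
  · have := (hK u).1 h
    rw [hu1, h31] at this
    norm_num at this
  · by_contra hc
    have h := sum_irr_mul_conj (u * k) u
    rw [if_neg hc] at h
    have he : ∀ χ : IrrCharacter G,
        χ.1 (u * k) * conj (χ.1 u) = χ.1 u * conj (χ.1 u) := fun χ => by
      by_cases ht : χ = trivialChar G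
      · rw [ht]; rfl
      by_cases h0 : χ.1 u = 0
      · rw [h0, map_zero, mul_zero, mul_zero]
      · rw [apply_mul_of_trivOn (hAtriv χ ⟨ht, h0⟩) u hk]
    simp only [he, hsumu] at h
    norm_num at h
  · have h := sum_irr_mul_conj u u
    rw [if_pos (IsConj.refl u), hsumu] at h
    exact_mod_cast h.symm

end Cfsg.Agent.ColumnFour
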