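import Cfsg.Agent.Lib.Char.FrobeniusSchur
import Cfsg.Agent.Lib.Char.Basic
import Mathlib.LinearAlgebra.PID
import Mathlib.LinearAlgebra.Trace

/-!
# The symmetric square of a character
-/

set_option autoImplicit false
set_option linter.style.haveILetI false

namespace Cfsg.Agent.ColumnFour

open Matrix
open scoped Kronecker

universe u

variable {G : Type u} [Group G]

/-- `g ↦ (χ(g)² + χ(g²)) / 2`. -/
noncomputable def symSq (χ : G → ℂ) (g : G) : ℂ := (χ g ^ 2 + χ (g ^ 2)) / 2

/-- The symmetriser on pairs. -/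
noncomputable def symProj (n : ℕ) : (Fin n × Fin n → ℂ) →ₗ[ℂ] (Fin n × Fin n → ℂ) :=
  (2 : ℂ)⁻¹ • (LinearMap.id + LinearMap.funLeft ℂ ℂ Prod.swap)

theorem symProj_apply {n : ℕ} (w : Fin n × Fin n → ℂ) (a : Fin n × Fin n) :
    symProj n w a = (2 : ℂ)⁻¹ * (w a + w a.swap) := by
  simp [symProj, LinearMap.funLeft_apply, smul_eq_mul, mul_add]

theorem isCharacter_symSq [Finite G] {χ : G → ℂ} (hχ : Cfsg.IsCharacter G χ) :
    Cfsg.IsCharacter G (symSq χ) := by
  classical
  haveI := Fintype.ofFinite G
  obtain ⟨n, ρ, rfl⟩ := hχ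
  let A : G → Matrix (Fin n) (Fin n) ℂ := fun g => LinearMap.toMatrix' (ρ g)
  have hAmul : ∀ g h, A (g * h) = A g * A h := fun g h => by
    simp only [A, map_mul, LinearMap.toMatrix'_mul]
  let σ : Representation ℂ G (Fin n × Fin n → ℂ) :=
    { toFun := fun g => Matrix.toLin' (A g ⊗ₖ A g)
      map_one' := by simp [A]; rfl
      map_mul' := fun g h => by
        rw [hAmul, Matrix.mul_kronecker_mul, Matrix.toLin'_mul]
        rfl }
  have hσ : ∀ g w a, σ g w a = ∑ b : Fin n × Fin n, A g a.1 b.1 * A g a.2 b.2 * w b := by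
    intro g w a
    show Matrix.toLin' (A g ⊗ₖ A g) w a = _
    simp [Matrix.toLin'_apply, Matrix.mulVec, dotProduct, Matrix.kroneckerMap_apply]
  have hswap : ∀ g w a, σ g w a.swap = σ g (fun b => w b.swap) a := by
    intro g w a
    rw [hσ, hσ]
    exact Fintype.sum_equiv (Equiv.prodComm _ _) _ _ fun b => by
      simp [mul_comm]
  let K : Subrepresentation σ :=
    { toSubmodule :=
        { carrier := {w | ∀ a, w a.swap = w a}
          add_mem' := fun {v w} hv hw a => by
            simp only [Pi.add_apply, hv a, hw a]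
          zero_mem' := fun a => by simp
          smul_mem' := fun c w hw a => by simp only [Pi.smul_apply, hw a] }
      apply_mem_toSubmodule := fun g w hw a => by
        have e : (fun b => w b.swap) = w := funext hw
        rw [hswap, e] }
  have hQ : ∀ w, symProj n w ∈ K.toSubmodule := fun w a => by
    rw [symProj_apply, symProj_apply, Prod.swap_swap]; ring
  have hfix : ∀ w ∈ K.toSubmodule, symProj n w = w := fun w hw => funext fun a => by
    rw [symProj_apply, hw a]; ring
  suffices h : K.toRepresentation.character = symSq ρ.character by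
    rw [← h]; exact Char.isCharacter_character _
  funext g
  have hmem : ∀ w, (σ g ∘ₗ symProj n) w ∈ K.toSubmodule := fun w =>
    K.apply_mem_toSubmodule g (hQ w)
  have h1 : LinearMap.trace ℂ K.toSubmodule (K.toRepresentation g) =
      LinearMap.trace ℂ _ (σ g ∘ₗ symProj n) := by
    rw [← LinearMap.trace_restrict_eq_of_forall_mem K.toSubmodule _ hmem]
    congr 1
    refine LinearMap.ext fun w => Subtype.ext ?_
    show σ g (w : Fin n × Fin n → ℂ) = σ g (symProj n w)
    rw [hfix w w.2]
  refine h1.trans ?_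
  rw [LinearMap.trace_eq_matrix_trace ℂ (Pi.basisFun ℂ (Fin n × Fin n)),
    LinearMap.toMatrix_eq_toMatrix', Matrix.trace]
  have h2 : ∀ a, (LinearMap.toMatrix' (σ g ∘ₗ symProj n)).diag a =
      (2 : ℂ)⁻¹ * (A g a.1 a.1 * A g a.2 a.2 + A g a.1 a.2 * A g a.2 a.1) := by
    intro a
    rw [Matrix.diag_apply, LinearMap.toMatrix'_apply, LinearMap.comp_apply, hσ]
    simp only [symProj_apply]
    simp only [Pi.single_apply, Prod.ext_iff, Prod.fst_swap, Prod.snd_swap, mul_add,
      Finset.sum_add_distrib]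
    rw [Fintype.sum_prod_type, Fintype.sum_prod_type]
    simp [ite_and, mul_comm]
  rw [Finset.sum_congr rfl fun a _ => h2 a, ← Finset.mul_sum, Finset.sum_add_distrib,
    Fintype.sum_prod_type, Fintype.sum_prod_type]
  have e1 : ∑ i, ∑ j, A g i i * A g j j = ρ.character g ^ 2 := by
    rw [Char.character_eq_trace, pow_two, Matrix.trace, Finset.sum_mul_sum]
    rfl
  have e2 : ∑ i, ∑ j, A g i j * A g j i = ρ.character (g ^ 2) := by
    rw [Char.character_eq_trace, pow_two, Matrix.trace]
    simp only [Matrix.diag_apply]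
    rw [show LinearMap.toMatrix' (ρ (g * g)) = A g * A g from hAmul g g]
    simp [Matrix.mul_apply]
  rw [e1, e2, symSq]
  ring

theorem symSq_one {χ : G → ℂ} : symSq χ 1 = (χ 1 ^ 2 + χ 1) / 2 := by
  rw [symSq, one_pow]

end Cfsg.Agent.ColumnFour
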